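import Groth.Agent.CycDim.Fund
import Mathlib

/-!
Local rings of the intersection of two closed subschemes.
-/

set_option autoImplicit false
set_option linter.style.haveILetI false
set_option backward.isDefEq.respectTransparency false

universe u

open CategoryTheory CategoryTheory.Limits AlgebraicGeometry TopologicalSpace IsLocalRing
open Groth.Agent.CDivNormal (genPrime)

noncomputable section

namespace Groth.Agent.P1Div

variable {X W P : Scheme.{u}}

/-- The morphism of the spectrum of a quotient of a local ring. -/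
def phi (p : P) (J : Ideal (P.presheaf.stalk p)) :
    Spec (CommRingCat.of (↥(P.presheaf.stalk p) ⧸ J)) ⟶ P :=
  Spec.map (CommRingCat.ofHom (Ideal.Quotient.mk J)) ≫ P.fromSpecStalk p

theorem isLocalRing_quot {p : P} {J : Ideal (P.presheaf.stalk p)} (hJ : J ≠ ⊤) :
    IsLocalRing (↥(P.presheaf.stalk p) ⧸ J) :=
  haveI := Ideal.Quotient.nontrivial_iff.2 hJ
  IsLocalRing.of_surjective' (Ideal.Quotient.mk J) Ideal.Quotient.mk_surjective

theorem phi_closedPoint {p : P} {J : Ideal (P.presheaf.stalk p)} [IsLocalRing (↥(P.presheaf.stalk p) ⧸ J)] :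
    phi p J (closedPoint (↥(P.presheaf.stalk p) ⧸ J)) = p := by
  haveI : IsLocalHom (Ideal.Quotient.mk J) := IsLocalHom.of_surjective _ Ideal.Quotient.mk_surjective
  have h : Spec.map (CommRingCat.ofHom (Ideal.Quotient.mk J)) (closedPoint (↥(P.presheaf.stalk p) ⧸ J)) =
      closedPoint (P.presheaf.stalk p) := IsLocalRing.comap_closedPoint (Ideal.Quotient.mk J)
  show P.fromSpecStalk p (Spec.map (CommRingCat.ofHom (Ideal.Quotient.mk J)) _) = p
  rw [h]
  exact Scheme.fromSpecStalk_closedPoint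

theorem le_phi_preimage {p : P} {J : Ideal (P.presheaf.stalk p)} [IsLocalRing (↥(P.presheaf.stalk p) ⧸ J)]
    {V : P.Opens} (hp : p ∈ V) : (⊤ : (Spec (CommRingCat.of (↥(P.presheaf.stalk p) ⧸ J))).Opens) ≤ phi p J ⁻¹ᵁ V :=
  (Scheme.preimage_eq_top_of_closedPoint_mem (phi p J) (by rw [phi_closedPoint]; exact hp)).ge

/-- The values of sections under `phi`. -/
theorem phi_appLE (p : P) (J : Ideal (P.presheaf.stalk p)) {V : P.Opens} (hp : p ∈ V)
    (h : (⊤ : (Spec (CommRingCat.of (↥(P.presheaf.stalk p) ⧸ J))).Opens) ≤ phi p J ⁻¹ᵁ V) (s : Γ(P, V)) :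
    (phi p J).appLE V ⊤ h s = (Scheme.ΓSpecIso (CommRingCat.of (↥(P.presheaf.stalk p) ⧸ J))).inv
      (Ideal.Quotient.mk J (P.presheaf.germ V p hp s)) := by
  let m : P.presheaf.stalk p ⟶ CommRingCat.of (↥(P.presheaf.stalk p) ⧸ J) := CommRingCat.ofHom (Ideal.Quotient.mk J)
  suffices H : (phi p J).appLE V ⊤ h = P.presheaf.germ V p hp ≫ m ≫ (Scheme.ΓSpecIso _).inv by
    rw [H]; rfl
  rw [Scheme.ΓSpecIso_inv_naturality m]
  simp [phi, m, Scheme.Hom.appLE, Scheme.fromSpecStalk_app hp, Category.assoc]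
  rfl

/-- Kernels of stalk maps and factorisations. -/
theorem ker_le (σ : X ⟶ P) (hσ : Function.Injective σ) (x : X) (J : Ideal (P.presheaf.stalk (σ x)))
    (hJ : J ≠ ⊤) (g : Spec (CommRingCat.of (↥(P.presheaf.stalk (σ x)) ⧸ J)) ⟶ X) (hg : g ≫ σ = phi (σ x) J)
    {a : P.presheaf.stalk (σ x)} (ha : (σ.stalkMap x).hom a = 0) : a ∈ J := by
  haveI := isLocalRing_quot hJ
  obtain ⟨V, hV, s, rfl⟩ := TopCat.Presheaf.exists_germ_eq (C := CommRingCat.{u}) P.presheaf a
  have h0 : (X.presheaf.germ (σ ⁻¹ᵁ V) x hV) (σ.app V s) = (X.presheaf.germ (σ ⁻¹ᵁ V) x hV) 0 := by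
    rw [map_zero, ← ha]
    exact (Scheme.Hom.germ_stalkMap_apply σ V x hV s).symm
  obtain ⟨W', hW', iU, iU', he⟩ := TopCat.Presheaf.germ_eq (C := CommRingCat.{u}) X.presheaf x hV hV _ _ h0
  rw [map_zero] at he
  have hgx : g (closedPoint (↥(P.presheaf.stalk (σ x)) ⧸ J)) = x := hσ (by
    rw [← Scheme.Hom.comp_apply, hg]; exact phi_closedPoint)
  have hW : (⊤ : (Spec (CommRingCat.of (↥(P.presheaf.stalk (σ x)) ⧸ J))).Opens) ≤ g ⁻¹ᵁ W' :=
    (Scheme.preimage_eq_top_of_closedPoint_mem g (by rw [hgx]; exact hW')).ge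
  have hle : (⊤ : (Spec (CommRingCat.of (↥(P.presheaf.stalk (σ x)) ⧸ J))).Opens) ≤ (g ≫ σ) ⁻¹ᵁ V :=
    hW.trans fun z hz => iU.le hz
  have e1 : (g ≫ σ).appLE V ⊤ hle = σ.appLE V W' iU.le ≫ g.appLE W' ⊤ hW :=
    (Scheme.Hom.appLE_comp_appLE g σ V W' ⊤ iU.le hW).symm
  have e2 : (σ.appLE V W' iU.le).hom s = 0 := he
  have e3 : ((g ≫ σ).appLE V ⊤ hle).hom s = 0 := by
    rw [e1]
    show (g.appLE W' ⊤ hW).hom ((σ.appLE V W' iU.le).hom s) = 0
    rw [e2, map_zero]
  have H : ∀ (m : Spec (CommRingCat.of (↥(P.presheaf.stalk (σ x)) ⧸ J)) ⟶ P) (_ : m = phi (σ x) J) (h : ⊤ ≤ m ⁻¹ᵁ V),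
      (m.appLE V ⊤ h).hom s = (Scheme.ΓSpecIso _).inv (Ideal.Quotient.mk J (P.presheaf.germ V (σ x) hV s)) := by
    rintro m rfl h; exact phi_appLE _ J hV h s
  rw [H _ hg hle] at e3
  refine Ideal.Quotient.eq_zero_iff_mem.1 ?_
  have := congrArg (Scheme.ΓSpecIso (CommRingCat.of (↥(P.presheaf.stalk (σ x)) ⧸ J))).hom.hom e3
  rw [map_zero] at this
  exact (Iso.inv_hom_id_apply (Scheme.ΓSpecIso (CommRingCat.of (↥(P.presheaf.stalk (σ x)) ⧸ J))) _).symm.trans this

/-- Lifting through a closed immersion. -/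
theorem exists_lift (ι : W ⟶ P) [IsClosedImmersion ι] (w : W) (p : P) (hw : ι w = p)
    (J : Ideal (P.presheaf.stalk p))
    (hI : ∀ a, (ι.stalkMap w).hom ((P.presheaf.stalkSpecializes (specializes_of_eq hw)).hom a) = 0 → a ∈ J) :
    ∃ g : Spec (CommRingCat.of (↥(P.presheaf.stalk p) ⧸ J)) ⟶ W, g ≫ ι = phi p J := by
  subst hw
  simp only [TopCat.Presheaf.stalkSpecializes_refl] at hI
  have hs : Function.Surjective (ι.stalkMap w).hom := ι.stalkMap_surjective w
  let l : W.presheaf.stalk w →+* ↥(P.presheaf.stalk (ι w)) ⧸ J :=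
    RingHom.liftOfSurjective (ι.stalkMap w).hom hs ⟨Ideal.Quotient.mk J, fun a ha =>
      RingHom.mem_ker.2 (Ideal.Quotient.eq_zero_iff_mem.2 (hI a ha))⟩
  refine ⟨Spec.map (CommRingCat.ofHom l) ≫ W.fromSpecStalk w, ?_⟩
  rw [Category.assoc, ← Scheme.SpecMap_stalkMap_fromSpecStalk, ← Spec.map_comp_assoc, phi]
  congr 2
  ext a
  exact RingHom.liftOfRightInverse_comp_apply (ι.stalkMap w).hom (Function.surjInv hs) (Function.rightInverse_surjInv hs)
    ⟨Ideal.Quotient.mk J, fun a ha => RingHom.mem_ker.2 (Ideal.Quotient.eq_zero_iff_mem.2 (hI a ha))⟩ a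

/-- The prime of the generic point of an integral closed subscheme. -/
theorem mem_genPrime_closed (ι : W ⟶ P) [IsClosedImmersion ι] [IsIntegral W] (w : W) (p : P) (hw : ι w = p)
    (h : ι (genericPoint W) ⤳ p) (a : P.presheaf.stalk p) :
    a ∈ genPrime h ↔ (ι.stalkMap w).hom ((P.presheaf.stalkSpecializes (specializes_of_eq hw)).hom a) = 0 := by
  subst hw
  simp only [TopCat.Presheaf.stalkSpecializes_refl]
  have hsp : genericPoint W ⤳ w := genericPoint_specializes w
  have hcomm : (ι.stalkMap (genericPoint W)).hom ((P.presheaf.stalkSpecializes h).hom a) =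
      (W.presheaf.stalkSpecializes hsp).hom ((ι.stalkMap w).hom a) :=
    Scheme.Hom.stalkSpecializes_stalkMap_apply ι (genericPoint W) w hsp a
  have hinj : Function.Injective (W.presheaf.stalkSpecializes hsp).hom :=
    IsFractionRing.injective (W.presheaf.stalk w) W.functionField
  show ¬ IsUnit ((P.presheaf.stalkSpecializes h).hom a) ↔ _
  rw [← isUnit_map_iff (ι.stalkMap (genericPoint W)).hom, hcomm]
  constructor
  · intro hu
    by_contra h0
    exact hu (isUnit_iff_ne_zero.2 fun e => h0 (hinj (e.trans (map_zero _).symm)))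
  · intro h0
    show ¬ IsUnit ((W.presheaf.stalkSpecializes hsp).hom ((ι.stalkMap w).hom a))
    rw [show (ι.stalkMap w).hom a = 0 from h0, map_zero]
    exact not_isUnit_zero

/-- The local ring of the intersection of an integral closed subscheme with a closed subscheme. -/
theorem length_inter (ι : W ⟶ P) [IsClosedImmersion ι] [IsIntegral W] (σ : X ⟶ P) [IsClosedImmersion σ]
    (z : ↥(pullback ι σ)) (h : ι (genericPoint W) ⤳ σ ((pullback.snd ι σ) z)) :
    Module.length ((pullback ι σ).presheaf.stalk z) ((pullback ι σ).presheaf.stalk z) =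
      Module.length (P.presheaf.stalk (σ ((pullback.snd ι σ) z)))
        (↥(P.presheaf.stalk (σ ((pullback.snd ι σ) z))) ⧸
          (genPrime h ⊔ RingHom.ker (σ.stalkMap ((pullback.snd ι σ) z)).hom)) := by
  let x := (pullback.snd ι σ) z
  let w := (pullback.fst ι σ) z
  have hwx : ι w = σ x := by
    show (pullback.fst ι σ ≫ ι) z = (pullback.snd ι σ ≫ σ) z
    rw [pullback.condition]
  let j : P.presheaf.stalk (σ x) →+* (pullback ι σ).presheaf.stalk z :=
    ((pullback.snd ι σ).stalkMap z).hom.comp (σ.stalkMap x).hom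
  have hj : Function.Surjective j := ((pullback.snd ι σ).stalkMap_surjective z).comp (σ.stalkMap_surjective x)
  have hjw : ∀ a, j a = ((pullback.fst ι σ).stalkMap z).hom ((ι.stalkMap w).hom
      ((P.presheaf.stalkSpecializes (specializes_of_eq hwx)).hom a)) := by
    intro a
    have := Scheme.Hom.stalkMap_congr_hom (pullback.snd ι σ ≫ σ) (pullback.fst ι σ ≫ ι) pullback.condition.symm z
    rw [Scheme.Hom.stalkMap_comp, Scheme.Hom.stalkMap_comp] at this
    exact DFunLike.congr_fun (CommRingCat.hom_ext_iff.mp this) a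
  have hker : RingHom.ker j = genPrime h ⊔ RingHom.ker (σ.stalkMap x).hom := by
    have hsup : genPrime h ⊔ RingHom.ker (σ.stalkMap x).hom ≤ maximalIdeal (P.presheaf.stalk (σ x)) :=
      sup_le (IsLocalRing.le_maximalIdeal (Ideal.IsPrime.ne_top inferInstance))
        (IsLocalRing.le_maximalIdeal (RingHom.ker_ne_top _))
    refine le_antisymm (fun a ha => ?_) (sup_le (fun a ha => ?_) fun a ha => ?_)
    · let J := genPrime h ⊔ RingHom.ker (σ.stalkMap x).hom
      have hJ : J ≠ ⊤ := fun e => (maximalIdeal.isMaximal _).ne_top (top_le_iff.1 (e.symm.le.trans hsup))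
      obtain ⟨gW, hgW⟩ := exists_lift ι w (σ x) hwx J fun b hb =>
        Ideal.mem_sup_left ((mem_genPrime_closed ι w (σ x) hwx h b).2 hb)
      obtain ⟨gX, hgX⟩ := exists_lift σ x (σ x) rfl J fun b hb => Ideal.mem_sup_right (by
        simpa [TopCat.Presheaf.stalkSpecializes_refl] using hb)
      let g := pullback.lift gW gX (hgW.trans hgX.symm)
      refine ker_le (pullback.snd ι σ ≫ σ) (pullback.snd ι σ ≫ σ).isClosedEmbedding.injective z J hJ g ?_ ?_
      · show g ≫ pullback.snd ι σ ≫ σ = _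
        rw [pullback.lift_snd_assoc]; exact hgX
      · rw [Scheme.Hom.stalkMap_comp]
        exact ha
    · rw [RingHom.mem_ker, hjw, (mem_genPrime_closed ι w (σ x) hwx h a).1 ha, map_zero]
    · rw [RingHom.mem_ker]
      show ((pullback.snd ι σ).stalkMap z).hom ((σ.stalkMap x).hom a) = 0
      rw [RingHom.mem_ker.1 ha, map_zero]
  rw [← hker, ← CycDim.length_congr (RingHom.quotientKerEquivOfSurjective hj)]
  exact (Module.length_eq_of_surjective (R := ↥(P.presheaf.stalk (σ x)) ⧸ RingHom.ker j)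
    (M := ↥(P.presheaf.stalk (σ x)) ⧸ RingHom.ker j) (S := P.presheaf.stalk (σ x))
    (Ideal.Quotient.mk_surjective (I := RingHom.ker j))).symm

end Groth.Agent.P1Div
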