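import Groth.Agent.P1Div.SheafFibre
import Groth.Agent.S1899
import Groth.Agent.QC.Localisation
import Mathlib

/-!
Closed subschemes of the projective line over a base, through their structure sheaves.
-/

set_option autoImplicit false
set_option linter.style.haveILetI false
set_option backward.isDefEq.respectTransparency false

universe u

open CategoryTheory CategoryTheory.Limits AlgebraicGeometry TopologicalSpace IsLocalRing
open Groth.Agent.CycDim (Coker)
open scoped Pointwise

noncomputable section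

namespace Groth.Agent.P1Div

variable {X W P : Scheme.{u}}

/-- The surjection from the ambient local ring. -/
def stkHom (ι : W ⟶ P) (w : W) {p : P} (hw : ι w = p) : P.presheaf.stalk p →+* W.presheaf.stalk w :=
  (ι.stalkMap w).hom.comp (P.presheaf.stalkSpecializes (specializes_of_eq hw)).hom

theorem exists_semilin (ι : W ⟶ P) [IsClosedImmersion ι] (w : W) :
    ∃ f : ↥(((Coh.push ι).obj (Coh.structureModule W)).presheaf.stalk (ι w)) →+ W.presheaf.stalk w,
      Function.Bijective f ∧ ∀ (r : P.presheaf.stalk (ι w))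
        (m : ((Coh.push ι).obj (Coh.structureModule W)).presheaf.stalk (ι w)),
        f (r • m) = (ι.stalkMap w).hom r * f m := by
  obtain ⟨e, -⟩ := Groth.Agent.RefStalk.exists_structStalk (X := W) w
  refine ⟨AddMonoidHom.mk' (fun m => e.symm (Groth.Agent.KFlat.pushStalk ι w (Coh.structureModule W) m))
    (fun a b => (congrArg e.symm (map_add (Groth.Agent.KFlat.pushStalk ι w (Coh.structureModule W)) a b)).trans
      (map_add e.symm _ _)), e.symm.bijective.comp (Groth.Agent.KFlat.pushStalk_bijective ι w (Coh.structureModule W)),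
    fun r m => (congrArg e.symm (Groth.Agent.KFlat.pushStalk_smul ι w (Coh.structureModule W) r m)).trans
      (map_smul e.symm ((ι.stalkMap w).hom r) _)⟩

theorem length_coker_push (ι : W ⟶ P) [IsClosedImmersion ι] (w : W) (p : P) (hw : ι w = p)
    (a : P.presheaf.stalk p) :
    Module.length (P.presheaf.stalk p) (Coker a (((Coh.push ι).obj (Coh.structureModule W)).presheaf.stalk p)) =
      Module.length (P.presheaf.stalk p)
        (↥(P.presheaf.stalk p) ⧸ (RingHom.ker (stkHom ι w hw) ⊔ Ideal.span {a})) := by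
  subst hw
  obtain ⟨f, hf, hfs⟩ := exists_semilin ι w
  obtain ⟨e, he⟩ := hf.2 1
  let L : P.presheaf.stalk (ι w) →ₗ[P.presheaf.stalk (ι w)]
      ((Coh.push ι).obj (Coh.structureModule W)).presheaf.stalk (ι w) := LinearMap.toSpanSingleton _ _ e
  have hL : Function.Surjective L := fun m => by
    obtain ⟨r, hr⟩ := ι.stalkMap_surjective w (f m)
    refine ⟨r, hf.1 ?_⟩
    show f (r • e) = f m
    rw [hfs, he, mul_one]; exact hr
  have hmem : ∀ r, r ∈ RingHom.ker (stkHom ι w (rfl : ι w = ι w)) ↔ r ∈ LinearMap.ker L := by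
    intro r
    have h1 : (stkHom ι w (rfl : ι w = ι w)) r = (ι.stalkMap w).hom r := by
      simp [stkHom, TopCat.Presheaf.stalkSpecializes_refl]
    rw [RingHom.mem_ker, h1, LinearMap.mem_ker, ← hf.1.eq_iff, map_zero]
    show _ ↔ f (r • e) = 0
    rw [hfs, he, mul_one]
  let φ := (a • (⊤ : Submodule (P.presheaf.stalk (ι w))
    (((Coh.push ι).obj (Coh.structureModule W)).presheaf.stalk (ι w)))).mkQ.comp L
  have hφ : Function.Surjective φ := (Submodule.mkQ_surjective _).comp hL
  have hk : LinearMap.ker φ = RingHom.ker (stkHom ι w (rfl : ι w = ι w)) ⊔ Ideal.span {a} := by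
    have h1 : a • (⊤ : Submodule (P.presheaf.stalk (ι w))
        (((Coh.push ι).obj (Coh.structureModule W)).presheaf.stalk (ι w))) = Submodule.map L (Ideal.span {a}) := by
      rw [← Submodule.ideal_span_singleton_smul, ← LinearMap.range_eq_top.2 hL, ← Submodule.map_top,
        ← Submodule.map_smul'']
      congr 1
      exact Ideal.mul_top _
    rw [LinearMap.ker_comp, Submodule.ker_mkQ, h1, Submodule.comap_map_eq, sup_comm]
    congr 1
    exact SetLike.ext fun r => (hmem r).symm
  exact ((Submodule.quotEquivOfEq _ _ hk.symm).trans (φ.quotKerEquivOfSurjective hφ)).length_eq.symm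

theorem isAssociatedPrime_push (ι : W ⟶ P) [IsClosedImmersion ι] (w : W)
    (h : IsAssociatedPrime (maximalIdeal (P.presheaf.stalk (ι w)))
      (((Coh.push ι).obj (Coh.structureModule W)).presheaf.stalk (ι w))) :
    IsAssociatedPrime (maximalIdeal (W.presheaf.stalk w)) (W.presheaf.stalk w) := by
  obtain ⟨f, hf, hfs⟩ := exists_semilin ι w
  obtain ⟨-, m, hm⟩ := h
  refine ⟨inferInstance, f m, SetLike.ext fun b => ?_⟩
  obtain ⟨r, rfl⟩ := ι.stalkMap_surjective w b
  rw [IsLocalRing.mem_maximalIdeal, mem_nonunits_iff, isUnit_map_iff (ι.stalkMap w).hom,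
    ← mem_nonunits_iff, ← IsLocalRing.mem_maximalIdeal, hm, Ideal.mem_radical_iff, Ideal.mem_radical_iff]
  simp only [Submodule.mem_colon_singleton, Submodule.mem_bot, smul_eq_mul, ← map_pow]
  refine exists_congr fun n => ?_
  rw [← hfs, ← hf.1.eq_iff, map_zero]

/-- The local ring of the intersection of two closed subschemes. -/
theorem length_inter_gen (ι : W ⟶ P) [IsClosedImmersion ι] (σ : X ⟶ P) [IsClosedImmersion σ]
    (z : ↥(pullback ι σ)) (hw : ι ((pullback.fst ι σ) z) = σ ((pullback.snd ι σ) z)) :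
    Module.length ((pullback ι σ).presheaf.stalk z) ((pullback ι σ).presheaf.stalk z) =
      Module.length (P.presheaf.stalk (σ ((pullback.snd ι σ) z)))
        (↥(P.presheaf.stalk (σ ((pullback.snd ι σ) z))) ⧸
          (RingHom.ker (stkHom ι _ hw) ⊔ RingHom.ker (σ.stalkMap ((pullback.snd ι σ) z)).hom)) := by
  let x := (pullback.snd ι σ) z
  let w := (pullback.fst ι σ) z
  let j : P.presheaf.stalk (σ x) →+* (pullback ι σ).presheaf.stalk z :=
    ((pullback.snd ι σ).stalkMap z).hom.comp (σ.stalkMap x).hom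
  have hj : Function.Surjective j := ((pullback.snd ι σ).stalkMap_surjective z).comp (σ.stalkMap_surjective x)
  have hjw : ∀ a, j a = ((pullback.fst ι σ).stalkMap z).hom (stkHom ι w hw a) := by
    intro a
    have := Scheme.Hom.stalkMap_congr_hom (pullback.snd ι σ ≫ σ) (pullback.fst ι σ ≫ ι) pullback.condition.symm z
    rw [Scheme.Hom.stalkMap_comp, Scheme.Hom.stalkMap_comp] at this
    exact DFunLike.congr_fun (CommRingCat.hom_ext_iff.mp this) a
  have hker : RingHom.ker j = RingHom.ker (stkHom ι w hw) ⊔ RingHom.ker (σ.stalkMap x).hom := by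
    have hsup : RingHom.ker (stkHom ι w hw) ⊔ RingHom.ker (σ.stalkMap x).hom ≤
        maximalIdeal (P.presheaf.stalk (σ x)) :=
      sup_le (IsLocalRing.le_maximalIdeal (RingHom.ker_ne_top _))
        (IsLocalRing.le_maximalIdeal (RingHom.ker_ne_top _))
    refine le_antisymm (fun a ha => ?_) (sup_le (fun a ha => ?_) fun a ha => ?_)
    · let J := RingHom.ker (stkHom ι w hw) ⊔ RingHom.ker (σ.stalkMap x).hom
      have hJ : J ≠ ⊤ := fun e => (maximalIdeal.isMaximal _).ne_top (top_le_iff.1 (e.symm.le.trans hsup))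
      obtain ⟨gW, hgW⟩ := exists_lift ι w (σ x) hw J fun b hb =>
        Ideal.mem_sup_left (RingHom.mem_ker.2 hb)
      obtain ⟨gX, hgX⟩ := exists_lift σ x (σ x) rfl J fun b hb => Ideal.mem_sup_right (by
        simpa [TopCat.Presheaf.stalkSpecializes_refl] using hb)
      let g := pullback.lift gW gX (hgW.trans hgX.symm)
      refine ker_le (pullback.snd ι σ ≫ σ) (pullback.snd ι σ ≫ σ).isClosedEmbedding.injective z J hJ g ?_ ?_
      · show g ≫ pullback.snd ι σ ≫ σ = _
        rw [pullback.lift_snd_assoc]; exact hgX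
      · rw [Scheme.Hom.stalkMap_comp]
        exact ha
    · rw [RingHom.mem_ker, hjw, RingHom.mem_ker.1 ha, map_zero]
    · rw [RingHom.mem_ker]
      show ((pullback.snd ι σ).stalkMap z).hom ((σ.stalkMap x).hom a) = 0
      rw [RingHom.mem_ker.1 ha, map_zero]
  rw [← hker, ← CycDim.length_congr (RingHom.quotientKerEquivOfSurjective hj)]
  exact (Module.length_eq_of_surjective (R := ↥(P.presheaf.stalk (σ x)) ⧸ RingHom.ker j)
    (M := ↥(P.presheaf.stalk (σ x)) ⧸ RingHom.ker j) (S := P.presheaf.stalk (σ x))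
    (Ideal.Quotient.mk_surjective (I := RingHom.ker j))).symm

theorem sheafFun_pullback_push [IsLocallyNoetherian X] (δ : X → ℤ) (k : ℤ) {Z : Scheme.{u}}
    (ι : Z ⟶ CohB1.ProjSpaceOver 1 X) [IsClosedImmersion ι] (i : Fin (1 + 1)) :
    Cyc.sheafFun δ k ((Scheme.Modules.pullback (P1.sect X i)).obj ((Coh.push ι).obj (Coh.structureModule Z))) =
      Cyc.subschemeFun δ k (pullback.snd ι (P1.sect X i)) := by
  funext x
  simp only [Cyc.subschemeFun, Cyc.sheafFun]
  split
  · rw [length_pullback_sect]
    by_cases hx : x ∈ Set.range (pullback.snd ι (P1.sect X i))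
    · obtain ⟨v, rfl⟩ := hx
      have hset : {w | (pullback.snd ι (P1.sect X i)) w = (pullback.snd ι (P1.sect X i)) v} = {v} :=
        Set.ext fun w => ⟨fun h => (pullback.snd ι (P1.sect X i)).isClosedEmbedding.injective h,
          fun h => congrArg _ h⟩
      rw [hset, finsum_mem_singleton]
      have hw : ι ((pullback.fst ι (P1.sect X i)) v) = P1.sect X i ((pullback.snd ι (P1.sect X i)) v) := by
        show (pullback.fst ι (P1.sect X i) ≫ ι) v = (pullback.snd ι (P1.sect X i) ≫ P1.sect X i) v
        rw [pullback.condition]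
      rw [length_coker_push ι _ _ hw, length_inter_gen ι (P1.sect X i) v hw, ker_sect i _ (mem_dom_sect i _)]
    · haveI h0 : Subsingleton (((Coh.push ι).obj (Coh.structureModule Z)).presheaf.stalk (P1.sect X i x)) :=
        Groth.Agent.KFlat.subsingleton_stalk_push ι (Coh.structureModule Z) fun ⟨z, hz⟩ => hx (by
          obtain ⟨v, -, hv⟩ := Scheme.Pullback.exists_preimage_pullback z x hz
          exact ⟨v, hv⟩)
      rw [Module.length_eq_zero]
      refine Eq.trans ?_ (finsum_mem_eq_zero_of_forall_eq_zero fun w hw => absurd ⟨w, hw⟩ hx).symm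
      rfl
  · rfl

/-- Cycles of the fibres of a closed subscheme at zero and infinity. -/
theorem ratEquiv_subschemeFun {δ : X → ℤ} {δP : ↥(CohB1.ProjSpaceOver 1 X) → ℤ} (hX : Cyc.IsSetup X δ)
    (hP : Cyc.DeltaCompat (CohB1.ProjSpaceOver.toBase 1 X) δP δ) (k : ℤ) {Z : Scheme.{u}}
    (ι : Z ⟶ CohB1.ProjSpaceOver 1 X) [IsClosedImmersion ι] (hZ : ∀ z : Z, δP (ι z) ≤ k + 1)
    (hZ0 : ∀ z : Z, ι z ∈ Set.range ⇑(P1.sect X 0) ∪ Set.range ⇑(P1.sect X 1) → δP (ι z) ≤ k)
    (hemb : ∀ z : Z, IsAssociatedPrime (IsLocalRing.maximalIdeal (Z.presheaf.stalk z)) (Z.presheaf.stalk z) →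
      ι z ∉ Set.range ⇑(P1.sect X 0) ∪ Set.range ⇑(P1.sect X 1) ∨ δP (ι z) < k)
    (α β : AlgebraicCycle X ℤ) (hα : ⇑α = Cyc.subschemeFun δ k (pullback.snd ι (P1.sect X 0)))
    (hβ : ⇑β = Cyc.subschemeFun δ k (pullback.snd ι (P1.sect X 1))) :
    Cyc.RatEquiv δ k α β := by
  haveI := hX.1
  haveI := isLocallyNoetherian_over (X := X)
  haveI : IsLocallyNoetherian Z := LocallyOfFiniteType.isLocallyNoetherian ι
  have hF : Coh.IsCoh ((Coh.push ι).obj (Coh.structureModule Z)) := by
    haveI := (Groth.Agent.RefStalk.isCoh_structureModule (X := Z)).1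
    exact Groth.Agent.QC.isCoh_pushforward_of_isFinite ι (Groth.Agent.RefStalk.isCoh_structureModule (X := Z)).2
  have hrange : ∀ p, Nontrivial (((Coh.push ι).obj (Coh.structureModule Z)).presheaf.stalk p) → ∃ z, ι z = p := by
    intro p hp
    by_contra h
    exact not_subsingleton_iff_nontrivial.2 hp
      (Groth.Agent.KFlat.subsingleton_stalk_push ι (Coh.structureModule Z) h)
  refine ratEquiv_sheafFun _ hX hP k hF.1 hF.2 (fun p hp => ?_) (fun i x hn => ?_) (fun p hp => ?_) α β
    (by rw [hα, sheafFun_pullback_push]) (by rw [hβ, sheafFun_pullback_push])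
  · obtain ⟨z, rfl⟩ := hrange p hp
    exact hZ z
  · have hn' : Nontrivial (((Coh.push ι).obj (Coh.structureModule Z)).presheaf.stalk (P1.sect X i x)) := by
      refine not_subsingleton_iff_nontrivial.1 fun hs => ?_
      have h0 := length_pullback_sect ((Coh.push ι).obj (Coh.structureModule Z)) i x
      rw [Module.length_eq_zero (M := Coker _ _), Module.length_eq_zero_iff] at h0
      exact not_subsingleton_iff_nontrivial.2 hn h0
    obtain ⟨z, hz⟩ := hrange _ hn'
    have := hZ0 z (by
      rw [hz]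
      fin_cases i
      · exact Or.inl ⟨x, rfl⟩
      · exact Or.inr ⟨x, rfl⟩)
    rw [hz, delta_sect hP] at this
    exact this
  · obtain ⟨z, rfl⟩ := hrange p (by
      obtain ⟨hI, m, hm⟩ := hp
      refine ⟨⟨m, 0, fun h => hI.ne_top ?_⟩⟩
      rw [hm, h, Ideal.radical_eq_top, Ideal.eq_top_iff_one, Submodule.mem_colon_singleton, one_smul]
      rfl)
    exact hemb z (isAssociatedPrime_push ι z hp)

end Groth.Agent.P1Div
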