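import Groth.Agent.P1Div.LenSum
import Groth.Agent.RefStalk.Generic
import Groth.Agent.LocFree.Props
import Groth.Agent.CycDim.Fund
import Groth.Agent.CycDim.FlatDim
import Mathlib

/-!
Stalks of quasi-coherent modules along specialisations and the length formula.
-/

set_option autoImplicit false
set_option linter.style.haveILetI false
set_option backward.isDefEq.respectTransparency false

universe u

open CategoryTheory AlgebraicGeometry TopologicalSpace
open Groth.Agent.CDivNormal (genPrime mem_genPrime germ_mem_genPrime exists_genPrime_eq specializes_of_le)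
open Groth.Agent.RefStalk (msp msp_smul msp_germ)
open Groth.Agent.WeakAssLib (mgerm)
open Groth.Agent.CycDim (lenAt coef spz)

noncomputable section

namespace Groth.Agent.P1Div

variable {X : Scheme.{u}} (F : X.Modules) [hq : Coh.IsQCoh F]

include hq in
/-- The multiplicity of a stalk at a generisation. -/
theorem lenAt_stalk [IsLocallyNoetherian X] {ξ x : X} (h : ξ ⤳ x) :
    lenAt ⟨genPrime h, inferInstance⟩ (F.presheaf.stalk x) =
      Module.length (X.presheaf.stalk ξ) (F.presheaf.stalk ξ) := by
  let S := X.presheaf.stalk x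
  letI := (spz h).toAlgebra
  haveI := CycDim.isLocalization_genPrime h
  letI : Module (X.presheaf.stalk x) (F.presheaf.stalk ξ) := Module.compHom _ (spz h)
  haveI : IsScalarTower (X.presheaf.stalk x) (X.presheaf.stalk ξ) (F.presheaf.stalk ξ) :=
    IsScalarTower.of_algebraMap_smul fun _ _ => rfl
  let g : F.presheaf.stalk x →ₗ[X.presheaf.stalk x] F.presheaf.stalk ξ :=
    { toFun := msp F h
      map_add' := map_add _
      map_smul' := fun a v => msp_smul F h a v }
  obtain ⟨U, hU, hxU, -⟩ := exists_isAffineOpen_mem_and_subset (x := x) (U := (⊤ : X.Opens)) trivial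
  have hξU := h.mem_open U.2 hxU
  have hloc := Groth.Agent.QC.isLoc_of_isQCoh hU (hM := hq)
  haveI : IsLocalizedModule (genPrime h).primeCompl g := by
    refine ⟨fun c => ?_, fun t => ?_, fun {v v'} hv => ?_⟩
    · rw [Module.End.isUnit_iff]
      exact (IsLocalization.map_units (X.presheaf.stalk ξ) c).smul_bijective
    · obtain ⟨a, s, ha, has⟩ := WeakAssLib.exists_germ hU hloc hξU t
      refine ⟨(mgerm F hxU s, ⟨(X.presheaf.germ U x hxU).hom a, fun hm => ha ((germ_mem_genPrime h hU hxU a).1 hm)⟩), ?_⟩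
      show spz h ((X.presheaf.germ U x hxU).hom a) • t = msp F h (mgerm F hxU s)
      rw [msp_germ F h hxU s, ← has]
      exact congrArg (· • t) (X.presheaf.germ_stalkSpecializes_apply hxU h a)
    · have h0 : msp F h (v - v') = 0 := by rw [map_sub, sub_eq_zero]; exact hv
      obtain ⟨a, s, ha, has⟩ := WeakAssLib.exists_germ hU hloc hxU (v - v')
      have h1 : mgerm F hξU s = 0 := by
        rw [← msp_germ F h hxU s, ← has, msp_smul, h0, smul_zero]
      obtain ⟨c, hc, hcs⟩ := (WeakAssLib.germ_eq_zero_iff hU hloc hξU s).1 h1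
      refine ⟨⟨(X.presheaf.germ U x hxU).hom c, fun hm => hc ((germ_mem_genPrime h hU hxU c).1 hm)⟩, ?_⟩
      show (X.presheaf.germ U x hxU).hom c • v = (X.presheaf.germ U x hxU).hom c • v'
      rw [← sub_eq_zero, ← smul_sub]
      refine (WeakAssLib.isUnit_germ hU hxU ha).smul_eq_zero.1 ?_
      rw [smul_comm, has, ← WeakAssLib.mgerm_smul, hcs, map_zero]
  let Rp := Localization.AtPrime (genPrime h)
  let φ := (IsLocalization.algEquiv (genPrime h).primeCompl Rp (X.presheaf.stalk ξ))
  haveI : RingHomSurjective (φ : Rp ≃+* X.presheaf.stalk ξ).toRingHom := ⟨φ.surjective⟩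
  let e := IsLocalizedModule.iso (genPrime h).primeCompl g
  let f : LocalizedModule (genPrime h).primeCompl (F.presheaf.stalk x) →ₛₗ[(φ : Rp ≃+* X.presheaf.stalk ξ).toRingHom]
      F.presheaf.stalk ξ :=
    { toFun := e
      map_add' := map_add e
      map_smul' := fun r m => by
        induction r using Localization.induction_on with
        | _ z =>
          obtain ⟨a, s⟩ := z
          have hs := IsLocalization.map_units (X.presheaf.stalk ξ) s
          refine hs.smul_left_cancel.1 ?_
          rw [algebraMap_smul (X.presheaf.stalk ξ) (s : X.presheaf.stalk x)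
            (e (Localization.mk a s • m)), ← map_smul, smul_smul]
          have h1 : (algebraMap (X.presheaf.stalk x) (X.presheaf.stalk ξ) s) * φ (Localization.mk a s) =
              algebraMap (X.presheaf.stalk x) (X.presheaf.stalk ξ) a := by
            rw [← φ.commutes, ← φ.commutes, ← map_mul]
            congr 1
            rw [Localization.mk_eq_mk', mul_comm, IsLocalization.mk'_spec]
          show e ((s : X.presheaf.stalk x) • (Localization.mk a s • m)) = _
          rw [show (s : X.presheaf.stalk x) • (Localization.mk a s • m) = a • m by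
            rw [← IsScalarTower.algebraMap_smul Rp (s : X.presheaf.stalk x), smul_smul,
              ← IsScalarTower.algebraMap_smul Rp a m, Localization.mk_eq_mk', mul_comm]
            congr 1
            exact IsLocalization.mk'_spec _ _ _, map_smul]
          show a • e m = (algebraMap (X.presheaf.stalk x) (X.presheaf.stalk ξ) s * φ (Localization.mk a s)) • e m
          rw [h1, algebraMap_smul] }
  have hf : Function.Bijective f := e.bijective
  rw [lenAt, Module.length, Module.length, WithBot.unbot_inj]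
  exact Order.krullDim_eq_of_orderIso (Submodule.orderIsoMapComapOfBijective f hf)

include hq in
/-- The length formula for a module with one dimensional support. -/
theorem length_coker_eq_sum [IsLocallyNoetherian X] (hft : CohB1.IsFT F) {δ : X → ℤ} (hδ : Cyc.IsDimFun X δ) {k : ℤ}
    {x : X} (hx : δ x = k) (hsupp : ∀ z, z ⤳ x → Nontrivial (F.presheaf.stalk z) → δ z ≤ k + 1)
    {a : X.presheaf.stalk x}
    (ha : ∀ z (hz : z ⤳ x), Nontrivial (F.presheaf.stalk z) → δ z = k + 1 → a ∉ genPrime hz)
    (hass : ∀ m : F.presheaf.stalk x, a • m = 0 → m = 0) :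
    ((Module.length (X.presheaf.stalk x) (CycDim.Coker a (F.presheaf.stalk x))).toNat : ℤ) =
      ∑ᶠ ξ : {ξ : X // ξ ⤳ x ∧ δ ξ = k + 1},
        ((Module.length (X.presheaf.stalk ξ.1) (F.presheaf.stalk ξ.1)).toNat : ℤ) *
          ((coef a ⟨genPrime ξ.2.1, inferInstance⟩).toNat : ℤ) := by
  classical
  haveI := SupportLib.finite_stalk F hft x
  let M := F.presheaf.stalk x
  let I := Module.annihilator (X.presheaf.stalk x) M
  have hsuppq : ∀ {z : X} (hz : z ⤳ x), I ≤ genPrime hz → Nontrivial (F.presheaf.stalk z) := by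
    intro z hz hle
    refine not_subsingleton_iff_nontrivial.1 fun hs => ?_
    have h0 : lenAt ⟨genPrime hz, inferInstance⟩ M = 0 := by
      rw [lenAt_stalk F hz]; exact Module.length_eq_zero
    rw [lenAt, Module.length_eq_zero_iff] at h0
    have : (⟨genPrime hz, inferInstance⟩ : PrimeSpectrum (X.presheaf.stalk x)) ∈
        Module.support (X.presheaf.stalk x) M := Module.mem_support_iff_of_finite.2 hle
    exact not_subsingleton_iff_nontrivial.2 (Module.mem_support_iff.1 this) h0
  have hdelta : ∀ {q : Ideal (X.presheaf.stalk x)}, q.IsPrime → I ≤ q → q ≠ IsLocalRing.maximalIdeal _ →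
      ∀ z (hz : z ⤳ x), genPrime hz = q → δ z = k + 1 ∧ Nontrivial (F.presheaf.stalk z) := by
    intro q _ hIq hqm z hz hzq
    have hn := hsuppq hz (hzq ▸ hIq)
    have hne : z ≠ x := by
      rintro rfl
      exact hqm (hzq.symm.trans (CycDim.genPrime_rfl z))
    have := CycDim.delta_lt hδ (CycDim.lt_of_spec hz hne)
    exact ⟨by have := hsupp z hz hn; omega, hn⟩
  have hdim : CycLen.DimOne I a := by
    intro q hq' hIq hqm
    obtain ⟨z, hz, hzq⟩ := exists_genPrime_eq x q
    obtain ⟨hzk, hn⟩ := hdelta hq' hIq hqm z hz hzq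
    refine ⟨⟨⟨hq', hIq⟩, fun p hp hpq => ?_⟩, hzq ▸ ha z hz hn hzk⟩
    haveI := hp.1
    obtain ⟨y, hy, rfl⟩ := exists_genPrime_eq x p
    have hyz : y ⤳ z := specializes_of_le hy hz (hzq ▸ hpq)
    have h1 := CycDim.eq_of_delta_le hδ hyz (by have := hsupp y hy (hsuppq hy hp.2); omega)
    subst h1
    exact hzq.ge
  have hfin : {p : PrimeSpectrum (X.presheaf.stalk x) | I ≤ p.asIdeal ∧ p.asIdeal ≠ IsLocalRing.maximalIdeal _}.Finite :=
    ((Ideal.finite_minimalPrimes_of_isNoetherianRing _ I).preimage (fun p _ q _ e => PrimeSpectrum.ext e)).subset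
      fun p hp => (hdim p.asIdeal p.2 hp.1 hp.2).1
  have hk : Module.length (X.presheaf.stalk x) (LinearMap.ker (LinearMap.lsmul (X.presheaf.stalk x) M a)) = 0 :=
    Module.length_eq_zero_iff.2 (subsingleton_of_forall_eq 0 fun m => Subtype.ext (hass m.1 m.2))
  rw [CycLen.length_quot_eq hdim M (fun b hb => Module.mem_annihilator.1 hb) hfin.toFinset
    (fun p => hfin.mem_toFinset), hk, zero_add]
  have hterm : ∀ p ∈ hfin.toFinset, lenAt p M * coef a p ≠ ⊤ := by
    intro p hp
    obtain ⟨hIp, hpm⟩ := hfin.mem_toFinset.1 hp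
    obtain ⟨z, hz, hzp⟩ := exists_genPrime_eq x p.asIdeal
    obtain ⟨hzk, -⟩ := hdelta p.2 hIp hpm z hz hzp
    refine WithTop.mul_ne_top ?_ ?_
    · rw [show p = ⟨genPrime hz, inferInstance⟩ from PrimeSpectrum.ext hzp.symm, lenAt_stalk F hz]
      exact (CycDim.length_stalk_module_lt_top F hq hft fun y hn hy =>
        CycDim.eq_of_delta_le hδ hy (by have := hsupp y (hy.trans hz) hn; omega)).ne
    · refine (CycLen.length_lt_top hdim _ (fun b hb m => ?_) fun m => ?_).ne
      · obtain ⟨c, rfl⟩ := Submodule.Quotient.mk_surjective _ m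
        rw [← Submodule.Quotient.mk_smul, Submodule.Quotient.mk_eq_zero]
        exact Ideal.mem_sup_left (Ideal.mul_mem_right c _ (hIp hb))
      · obtain ⟨c, rfl⟩ := Submodule.Quotient.mk_surjective _ m
        rw [← Submodule.Quotient.mk_smul, Submodule.Quotient.mk_eq_zero]
        exact Ideal.mem_sup_right (Ideal.mul_mem_right c _ (Ideal.mem_span_singleton_self a))
  rw [ENat.toNat_sum hterm, Nat.cast_sum]
  let P := {ξ : X // ξ ⤳ x ∧ δ ξ = k + 1}
  let e : P → PrimeSpectrum (X.presheaf.stalk x) := fun ξ => ⟨genPrime ξ.2.1, inferInstance⟩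
  have he : Function.Injective e := fun ξ η hξη => Subtype.ext
    ((specializes_of_le ξ.2.1 η.2.1 (congrArg PrimeSpectrum.asIdeal hξη).le).antisymm
      (specializes_of_le η.2.1 ξ.2.1 (congrArg PrimeSpectrum.asIdeal hξη).ge)).eq
  let G : P → ℤ := fun ξ => ((Module.length (X.presheaf.stalk ξ.1) (F.presheaf.stalk ξ.1)).toNat : ℤ) *
    ((coef a (e ξ)).toNat : ℤ)
  have hsub : Function.support G ⊆ e ⁻¹' (hfin.toFinset : Set (PrimeSpectrum (X.presheaf.stalk x))) := by
    intro ξ hξ
    refine hfin.mem_toFinset.2 ⟨?_, fun hm => ?_⟩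
    · by_contra hle
      refine hξ ?_
      have h0 : lenAt (e ξ) M = 0 := by
        rw [lenAt, Module.length_eq_zero_iff]
        exact not_nontrivial_iff_subsingleton.1 fun hn => hle
          (Module.mem_support_iff_of_finite.1 (Module.mem_support_iff.2 hn))
      show _ * _ = _
      rw [← lenAt_stalk F ξ.2.1, h0]
      simp
    · have h1 : x ⤳ ξ.1 := specializes_of_le (specializes_refl x) ξ.2.1 (by
        rw [CycDim.genPrime_rfl]; exact hm.ge)
      have h2 : ξ.1 = x := (ξ.2.1.antisymm h1).eq
      have := ξ.2.2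
      rw [h2, hx] at this
      omega
  refine Eq.symm ?_
  refine (finsum_eq_sum_of_support_subset G (s := hfin.toFinset.preimage e he.injOn)
    (fun ξ hξ => Finset.mem_coe.2 (Finset.mem_preimage.2 (hsub hξ)))).trans ?_
  refine Finset.sum_bij (fun ξ _ => e ξ) (fun ξ hξ => Finset.mem_preimage.1 hξ) (fun ξ _ η _ hh => he hh)
    (fun p hp => ?_) (fun ξ _ => ?_)
  · obtain ⟨hIp, hpm⟩ := hfin.mem_toFinset.1 hp
    obtain ⟨z, hz, hzp⟩ := exists_genPrime_eq x p.asIdeal
    obtain ⟨hzk, -⟩ := hdelta p.2 hIp hpm z hz hzp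
    have hep : e ⟨z, hz, hzk⟩ = p := PrimeSpectrum.ext hzp
    exact ⟨⟨z, hz, hzk⟩, Finset.mem_preimage.2 (hep.symm ▸ hp), hep⟩
  · show G ξ = _
    rw [ENat.toNat_mul, Nat.cast_mul, lenAt_stalk F ξ.2.1]

end Groth.Agent.P1Div
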