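import Groth.Agent.P1Div.Fibres
import Groth.Agent.P1Div.StalkLoc
import Groth.Agent.KFlat.Pullback
import Groth.Agent.QC.Support
import Mathlib

/-!
Fibres of coherent sheaves on the projective line over a base.
-/

set_option autoImplicit false
set_option linter.style.haveILetI false
set_option backward.isDefEq.respectTransparency false

universe u

open CategoryTheory CategoryTheory.Limits AlgebraicGeometry TopologicalSpace IsLocalRing
open Groth.Agent.CDivNormal (genPrime exists_genPrime_eq)
open Groth.Agent.CycDim (coef Coker)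
open scoped Pointwise TensorProduct

noncomputable section

namespace Groth.Agent.P1Div

theorem length_baseChange_quot {A B : Type u} [CommRing A] [CommRing B] [Algebra A B]
    (hs : Function.Surjective (algebraMap A B)) {a : A} (hk : RingHom.ker (algebraMap A B) = Ideal.span {a})
    (M : Type u) [AddCommGroup M] [Module A M] :
    Module.length B (B ⊗[A] M) = Module.length A (Coker a M) := by
  rw [← Module.length_eq_of_surjective (R := B) (M := B ⊗[A] M) (S := A) hs]
  let e₁ : (A ⧸ Ideal.span {a}) ≃ₗ[A] B :=
    ((Submodule.quotEquivOfEq _ _ (by rw [← hk]; rfl)).trans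
      ((Algebra.linearMap A B).quotKerEquivOfSurjective hs))
  exact LinearEquiv.length_eq ((TensorProduct.congr e₁ (LinearEquiv.refl A M)).symm.trans
    ((TensorProduct.quotTensorEquivQuotSMul M (Ideal.span {a})).trans
      (Submodule.quotEquivOfEq _ _ (Submodule.ideal_span_singleton_smul a ⊤))))

variable {X : Scheme.{u}} [IsLocallyNoetherian X] (F : (CohB1.ProjSpaceOver 1 X).Modules)

theorem length_pullback_sect (i : Fin (1 + 1)) (x : X) :
    Module.length (X.presheaf.stalk x) (((Scheme.Modules.pullback (P1.sect X i)).obj F).presheaf.stalk x) =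
      Module.length ((CohB1.ProjSpaceOver 1 X).presheaf.stalk (P1.sect X i x))
        (Coker (tStk i _ (mem_dom_sect i x)) (F.presheaf.stalk (P1.sect X i x))) := by
  letI := ((P1.sect X i).stalkMap x).hom.toAlgebra
  exact ((Groth.Agent.KFlat.pullStalkIso (P1.sect X i) x).app F).toLinearEquiv.length_eq.trans
    (length_baseChange_quot ((P1.sect X i).stalkMap_surjective x) (ker_sect i x (mem_dom_sect i x))
      (F.presheaf.stalk (P1.sect X i x)))

/-- Cycles of the fibres of a coherent sheaf at zero and infinity. -/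
theorem ratEquiv_sheafFun {δ : X → ℤ} {δP : ↥(CohB1.ProjSpaceOver 1 X) → ℤ} (hX : Cyc.IsSetup X δ)
    (hP : Cyc.DeltaCompat (CohB1.ProjSpaceOver.toBase 1 X) δP δ) (k : ℤ) (hq : Coh.IsQCoh F) (hft : CohB1.IsFT F)
    (hsupp : ∀ p : ↥(CohB1.ProjSpaceOver 1 X), Nontrivial (F.presheaf.stalk p) → δP p ≤ k + 1)
    (hsect : ∀ (i : Fin (1 + 1)) (x : X),
      Nontrivial (((Scheme.Modules.pullback (P1.sect X i)).obj F).presheaf.stalk x) → δ x ≤ k)
    (hemb : ∀ p : ↥(CohB1.ProjSpaceOver 1 X),
      IsAssociatedPrime (IsLocalRing.maximalIdeal ((CohB1.ProjSpaceOver 1 X).presheaf.stalk p)) (F.presheaf.stalk p) →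
        p ∉ Set.range ⇑(P1.sect X 0) ∪ Set.range ⇑(P1.sect X 1) ∨ δP p < k)
    (α β : AlgebraicCycle X ℤ) (hα : ⇑α = Cyc.sheafFun δ k ((Scheme.Modules.pullback (P1.sect X 0)).obj F))
    (hβ : ⇑β = Cyc.sheafFun δ k ((Scheme.Modules.pullback (P1.sect X 1)).obj F)) :
    Cyc.RatEquiv δ k α β := by
  classical
  haveI := isLocallyNoetherian_over (X := X)
  haveI := hq
  have hD := isDimFun_over hX hP
  have hnt : ∀ (i : Fin (1 + 1)) (x : X), Nontrivial (F.presheaf.stalk (P1.sect X i x)) → δ x ≤ k := by
    intro i x hn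
    refine hsect i x (not_subsingleton_iff_nontrivial.1 fun hs => ?_)
    haveI := SupportLib.finite_stalk F hft (P1.sect X i x)
    have h0 : Module.length ((CohB1.ProjSpaceOver 1 X).presheaf.stalk (P1.sect X i x))
        (Coker (tStk i _ (mem_dom_sect i x)) (F.presheaf.stalk (P1.sect X i x))) = 0 := by
      rw [← length_pullback_sect F i x]; exact Module.length_eq_zero
    rw [Module.length_eq_zero_iff, Submodule.Quotient.subsingleton_iff] at h0
    refine Submodule.top_ne_pointwise_smul_of_mem_jacobson_annihilator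
      (IsLocalRing.maximalIdeal_le_jacobson _ ?_) h0.symm
    exact (mem_maximalIdeal _).2 (not_isUnit_tStk_sect i x)
  let m : ↥(CohB1.ProjSpaceOver 1 X) → ℤ := Cyc.sheafFun δP (k + 1) F
  have hm0 : ∀ p, m p ≠ 0 → δP p = k + 1 ∧ Nontrivial (F.presheaf.stalk p) := by
    intro p hp
    simp only [m, Cyc.sheafFun] at hp
    split at hp
    · next h =>
      refine ⟨h, not_subsingleton_iff_nontrivial.1 fun hs => hp ?_⟩
      rw [Module.length_eq_zero]; rfl
    · exact absurd rfl hp
  have hm : ∀ p, m p ≠ 0 → δP p = k + 1 ∧ p ∉ Set.range (P1.sect X 0) ∧ p ∉ Set.range (P1.sect X 1) := by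
    intro p hp
    obtain ⟨hd, hn⟩ := hm0 p hp
    refine ⟨hd, ?_, ?_⟩ <;>
    · rintro ⟨y, rfl⟩
      have := hnt _ y hn
      rw [delta_sect hP] at hd
      omega
  have hfin : ∀ {U : (CohB1.ProjSpaceOver 1 X).Opens}, IsAffineOpen U → {p | p ∈ U ∧ m p ≠ 0}.Finite := by
    intro U hU
    refine (CycDiv.finite_maximal (Groth.Agent.QC.isClosed_support hft) hU).subset ?_
    rintro p ⟨hpU, hp⟩
    obtain ⟨hd, hn⟩ := hm0 p hp
    exact ⟨hpU, not_subsingleton_iff_nontrivial.2 hn, fun y hy hyp => CycDim.eq_of_delta_le hD hyp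
      (by have := hsupp y (not_subsingleton_iff_nontrivial.1 hy); omega)⟩
  have key : ∀ (i : Fin (1 + 1)) (x : X),
      Cyc.sheafFun δ k ((Scheme.Modules.pullback (P1.sect X i)).obj F) x = secSum δ k m i x := by
    intro i x
    unfold Cyc.sheafFun secSum
    by_cases hx : δ x = k
    · rw [if_pos hx, if_pos hx, length_pullback_sect]
      let p := P1.sect X i x
      have hp : δP p = k := (delta_sect hP i x).trans hx
      have ha : ∀ z (hz : z ⤳ p), Nontrivial (F.presheaf.stalk z) → δP z = k + 1 →
          tStk i p (mem_dom_sect i x) ∉ genPrime hz := by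
        intro z hz hn hzk hmem
        change ¬ IsUnit _ at hmem
        rw [spz_tStk] at hmem
        obtain ⟨y, rfl⟩ := mem_range_sect i z _ hmem
        have := hnt i y hn
        rw [delta_sect hP] at hzk
        omega
      have hass : ∀ v : F.presheaf.stalk p, tStk i p (mem_dom_sect i x) • v = 0 → v = 0 := by
        intro v hv
        by_contra hv0
        haveI : IsNoetherianRing ((CohB1.ProjSpaceOver 1 X).presheaf.stalk p) := inferInstance
        obtain ⟨Q, hQ, hle⟩ := exists_le_isAssociatedPrime_of_isNoetherianRing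
          ((CohB1.ProjSpaceOver 1 X).presheaf.stalk p) v hv0
        have htQ : tStk i p (mem_dom_sect i x) ∈ Q := hle (Submodule.mem_colon_singleton.2 hv)
        haveI := hQ.isPrime
        obtain ⟨z, hz, hzQ⟩ := exists_genPrime_eq p Q
        by_cases hzp : z = p
        · subst hzp
          rw [CycDim.genPrime_rfl] at hzQ
          rcases hemb p (hzQ ▸ hQ) with h | h
          · apply h
            fin_cases i
            · exact Or.inl ⟨x, rfl⟩
            · exact Or.inr ⟨x, rfl⟩
          · omega
        · have hann : Module.annihilator ((CohB1.ProjSpaceOver 1 X).presheaf.stalk p) (F.presheaf.stalk p) ≤ Q :=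
            (le_of_eq Submodule.annihilator_top.symm).trans hQ.annihilator_le
          haveI := SupportLib.finite_stalk F hft p
          have hn : Nontrivial (F.presheaf.stalk z) := by
            refine not_subsingleton_iff_nontrivial.1 fun hs => ?_
            have h0 : CycDim.lenAt ⟨genPrime hz, inferInstance⟩ (F.presheaf.stalk p) = 0 := by
              rw [lenAt_stalk F hz]; exact Module.length_eq_zero
            rw [CycDim.lenAt, Module.length_eq_zero_iff] at h0
            exact not_subsingleton_iff_nontrivial.2 (Module.mem_support_iff.1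
              ((Module.mem_support_iff_of_finite (p := ⟨genPrime hz, inferInstance⟩)).2 (hzQ ▸ hann))) h0
          have h1 := CycDim.delta_lt hD (CycDim.lt_of_spec hz hzp)
          exact ha z hz hn (by have := hsupp z hn; omega) (hzQ.symm ▸ htQ)
      rw [length_coker_eq_sum F hft hD hp (fun z _ hn => hsupp z hn) ha hass]
      refine ((finsum_congr fun ξ => ?_).trans (finsum_subtype_eq_finsum_cond
        (f := fun ω => m ω * (if h : ω ⤳ p then
          ((coef (tStk i p (mem_dom_sect i x)) ⟨genPrime h, inferInstance⟩).toNat : ℤ) else 0))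
        (fun ω => ω ⤳ p ∧ δP ω = k + 1))).trans (finsum_congr fun ω => ?_)
      · show _ = Cyc.sheafFun δP (k + 1) F ξ.1 * _
        rw [Cyc.sheafFun, if_pos ξ.2.2, dif_pos ξ.2.1]
      · rw [finsum_eq_if]
        by_cases h : ω ⤳ p
        · rw [dif_pos h, dif_pos h]
          split
          · rfl
          · next hne =>
            rw [show m ω = 0 from not_not.1 fun h' => hne ⟨h, (hm ω h').1⟩, zero_mul]
        · rw [if_neg fun h' => h h'.1, dif_neg h]
    · rw [if_neg hx, if_neg hx]
  exact ratEquiv_fibres hX hP k m hm hfin α β (fun x => by rw [hα, key]) (fun x => by rw [hβ, key])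

end Groth.Agent.P1Div
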