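import Groth.Agent.P1Div.Graph
import Groth.Agent.CMFlat.BaseChange
import Groth.Agent.FieldFG.Basic
import Mathlib

/-!
Existence of the induced dimension function.
-/

set_option autoImplicit false
set_option linter.style.haveILetI false
set_option backward.isDefEq.respectTransparency false

universe u

open CategoryTheory AlgebraicGeometry

noncomputable section

namespace Groth.Agent.P1Div

/-- The dimension function induced along a morphism locally of finite type. -/
theorem exists_deltaCompat {X Y : Scheme.{u}} (f : X ⟶ Y) [LocallyOfFiniteType f] (δ : Y → ℤ) :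
    ∃ δX : X → ℤ, Cyc.DeltaCompat f δX δ := by
  have h : ∀ x : X, ∃ n : ℕ, (letI := (f.residueFieldMap x).hom.toAlgebra
      Algebra.trdeg (Y.residueField (f x)) (X.residueField x)) = n := by
    intro x
    letI := (f.residueFieldMap x).hom.toAlgebra
    haveI : Algebra.EssFiniteType (Y.residueField (f x)) (X.residueField x) :=
      Groth.Agent.CMFlat.essFiniteType_residueFieldMap f x
    exact Cardinal.lt_aleph0.1 (trdeg_lt_aleph0 _ _)
  choose n hn using h
  exact ⟨fun x => δ (f x) + n x, fun x => ⟨n x, hn x, rfl⟩⟩

end Groth.Agent.P1Div
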