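import Groth.Agent.P1Div.Chart
import Groth.Agent.CycDim.PushRat
import Groth.Agent.CycDim.PullDiv
import Groth.Prelude.Def_Bivar
import Mathlib

/-!
The divisor of the coordinate on a subvariety of the projective line over a base and its push forward.
-/

set_option autoImplicit false
set_option linter.style.haveILetI false
set_option backward.isDefEq.respectTransparency false

universe u

open CategoryTheory CategoryTheory.Limits AlgebraicGeometry TopologicalSpace IsLocalRing
open Groth.Agent.C1Cap (rdu)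
open Groth.Agent.CDivNormal (genPrime)

noncomputable section

namespace Groth.Agent.P1Div

variable {X : Scheme.{u}}

theorem isLocallyNoetherian_over [IsLocallyNoetherian X] : IsLocallyNoetherian (CohB1.ProjSpaceOver 1 X) :=
  LocallyOfFiniteType.isLocallyNoetherian (CohB1.ProjSpaceOver.toBase 1 X)

theorem isDimFun_over {δ : X → ℤ} (hX : Cyc.IsSetup X δ) {δP : ↥(CohB1.ProjSpaceOver 1 X) → ℤ}
    (hP : Cyc.DeltaCompat (CohB1.ProjSpaceOver.toBase 1 X) δP δ) : Cyc.IsDimFun _ δP :=
  S9684.result (CohB1.ProjSpaceOver.toBase 1 X) δ hX δP hP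

theorem delta_sect {δ : X → ℤ} {δP : ↥(CohB1.ProjSpaceOver 1 X) → ℤ}
    (hP : Cyc.DeltaCompat (CohB1.ProjSpaceOver.toBase 1 X) δP δ) (i : Fin (1 + 1)) (x : X) :
    δP (P1.sect X i x) = δ x := by
  have h1 := Bivar.deltaCompat_comp (P1.sect X i) (CohB1.ProjSpaceOver.toBase 1 X) _ δP δ
    (CycPush.deltaCompat_preimmersion (P1.sect X i) δP) hP
  rw [sect_toBase] at h1
  exact CycPush.deltaCompat_unique (𝟙 X) h1 (CycPush.deltaCompat_preimmersion (𝟙 X) δ) x

theorem residueDegree_sect (i : Fin (1 + 1)) (x : X) :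
    (CohB1.ProjSpaceOver.toBase 1 X).residueDegree (P1.sect X i x) = 1 := by
  have e : (P1.sect X i ≫ CohB1.ProjSpaceOver.toBase 1 X).residueDegree x = (𝟙 X : X ⟶ X).residueDegree x :=
    congrArg (fun m : X ⟶ X => m.residueDegree x) (sect_toBase X i)
  rw [CycDeg.residueDegree_comp,
    CycDeg.residueDegree_eq_one (P1.sect X i) (CycPush.residueFieldMap_surjective_pre _ x),
    CycDeg.residueDegree_eq_one (𝟙 X) (CycPush.residueFieldMap_surjective_pre _ x), mul_one] at e
  exact e

theorem mem_dom_sect (i : Fin (1 + 1)) (x : X) : P1.sect X i x ∈ dom X i := le_sect X i (x := x) trivial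

theorem isUnit_tStk_of_not_range (i : Fin (1 + 1)) {p : ↥(CohB1.ProjSpaceOver 1 X)} (hp : p ∈ dom X i)
    (h : p ∉ Set.range (P1.sect X i)) : IsUnit (tStk i p hp) := by
  by_contra hu
  exact h (mem_range_sect i p hp hu)

theorem not_isUnit_tStk_sect (i : Fin (1 + 1)) (x : X) : ¬ IsUnit (tStk i _ (mem_dom_sect i x)) := fun h => by
  have := h.map ((P1.sect X i).stalkMap x).hom
  rw [sect_tStk] at this
  exact not_isUnit_zero this

theorem sect_ne (x y : X) : P1.sect X 0 x ≠ P1.sect X 1 y := by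
  intro e
  have h1 : P1.sect X 0 x ∈ dom X 1 := e ▸ mem_dom_sect 1 y
  exact not_isUnit_tStk_sect 0 x (IsUnit.of_mul_eq_one _ (tStk_mul _ (mem_dom_sect 0 x) h1))

theorem mem_dom_of_not_range {p : ↥(CohB1.ProjSpaceOver 1 X)} (h0 : p ∉ Set.range (P1.sect X 0))
    (h1 : p ∉ Set.range (P1.sect X 1)) : p ∈ dom X 0 ∧ p ∈ dom X 1 := by
  rcases dom_cover p with h | h
  · exact ⟨h, mem_dom_of_isUnit 0 p h (isUnit_tStk_of_not_range 0 h h0)⟩
  · exact ⟨mem_dom_of_isUnit 1 p h (isUnit_tStk_of_not_range 1 h h1), h⟩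

/-- The coordinate as a rational function on the closure of a point. -/
def tVal (ω : ↥(CohB1.ProjSpaceOver 1 X)) (h0 : ω ∈ dom X 0) : (CohB1.ProjSpaceOver 1 X).residueField ω :=
  rdu ω (tStk 0 ω h0)

theorem tVal_ne_zero {ω : ↥(CohB1.ProjSpaceOver 1 X)} (h0 : ω ∈ dom X 0) (hn : ω ∉ Set.range (P1.sect X 0)) :
    tVal ω h0 ≠ 0 := fun h =>
  (IsLocalRing.mem_maximalIdeal _).1 ((IsLocalRing.residue_eq_zero_iff _).1 h) (isUnit_tStk_of_not_range 0 h0 hn)

variable [IsLocallyNoetherian X] {δ : X → ℤ} {δP : ↥(CohB1.ProjSpaceOver 1 X) → ℤ} {k : ℤ}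

/-- The fibres of a subvariety. -/
theorem subschemeFun_sect (i : Fin (1 + 1)) {W : Scheme.{u}} [IsIntegral W] (ι : W ⟶ CohB1.ProjSpaceOver 1 X)
    [IsClosedImmersion ι] (x : X) (hx : δ x = k) :
    Cyc.subschemeFun δ k (pullback.snd ι (P1.sect X i)) x =
      open Classical in
      if h : ι (genericPoint W) ⤳ P1.sect X i x then
        ((Module.length ((CohB1.ProjSpaceOver 1 X).presheaf.stalk (P1.sect X i x))
          (↥((CohB1.ProjSpaceOver 1 X).presheaf.stalk (P1.sect X i x)) ⧸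
            (genPrime h ⊔ Ideal.span {tStk i _ (mem_dom_sect i x)}))).toNat : ℤ)
      else 0 := by
  classical
  unfold Cyc.subschemeFun
  rw [if_pos hx]
  split
  · next h =>
    obtain ⟨w, hw⟩ : P1.sect X i x ∈ Set.range ι :=
      h.mem_closed ι.isClosedEmbedding.isClosed_range ⟨_, rfl⟩
    obtain ⟨z, -, hz⟩ := Scheme.Pullback.exists_preimage_pullback (f := ι) (g := P1.sect X i) w x hw
    haveI : IsClosedImmersion (pullback.snd ι (P1.sect X i)) :=
      MorphismProperty.pullback_snd _ _ inferInstance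
    have hset : {v | pullback.snd ι (P1.sect X i) v = x} = {z} := Set.ext fun v =>
      ⟨fun hv => (pullback.snd ι (P1.sect X i)).isClosedEmbedding.injective (hv.trans hz.symm), fun hv => hv ▸ hz⟩
    rw [hset, finsum_mem_singleton]
    subst hz
    rw [length_inter ι (P1.sect X i) z h, ker_sect]
  · next h =>
    refine finsum_mem_eq_zero_of_forall_eq_zero fun z hz => absurd ?_ h
    have e : ι ((pullback.fst ι (P1.sect X i)) z) = P1.sect X i x := by
      show (pullback.fst ι (P1.sect X i) ≫ ι) z = _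
      rw [pullback.condition]
      exact congrArg (P1.sect X i) hz
    rw [← e]
    exact (genericPoint_specializes _).map ι.continuous

theorem ordAt_coord (hP : Cyc.IsDimFun _ δP) (i : Fin (1 + 1)) {ω : ↥(CohB1.ProjSpaceOver 1 X)}
    (hω : ω ∉ Set.range (P1.sect X i)) (x : X) (h : ω ⤳ P1.sect X i x) (hd : δP (P1.sect X i x) + 1 = δP ω) :
    Cyc.ordAt (P1.sect X i x) ω h (rdu ω (tStk i ω (h.mem_open (dom X i).2 (mem_dom_sect i x)))) =
      ((Module.length ((CohB1.ProjSpaceOver 1 X).presheaf.stalk (P1.sect X i x))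
          (↥((CohB1.ProjSpaceOver 1 X).presheaf.stalk (P1.sect X i x)) ⧸
            (genPrime h ⊔ Ideal.span {tStk i _ (mem_dom_sect i x)}))).toNat : ℤ) := by
  haveI := isLocallyNoetherian_over (X := X)
  rw [← spz_tStk i h (mem_dom_sect i x)]
  refine CycPull.ordAt_eq_length hP h hd.ge fun hm => ?_
  change ¬ IsUnit _ at hm
  rw [spz_tStk] at hm
  exact hm (isUnit_tStk_of_not_range i _ hω)

/-- The push forward of the divisor of the coordinate. -/
theorem push_divFun_tVal (hP : Cyc.DeltaCompat (CohB1.ProjSpaceOver.toBase 1 X) δP δ) (hD : Cyc.IsDimFun _ δP)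
    {W : Scheme.{u}} [IsIntegral W] (ι : W ⟶ CohB1.ProjSpaceOver 1 X) [IsClosedImmersion ι]
    {ω : ↥(CohB1.ProjSpaceOver 1 X)} (hι : ι (genericPoint W) = ω) (hω : δP ω = k + 1)
    (h0 : ω ∈ dom X 0) (hn0 : ω ∉ Set.range (P1.sect X 0)) (hn1 : ω ∉ Set.range (P1.sect X 1)) (x : X) :
    ∑ᶠ p ∈ (CohB1.ProjSpaceOver.toBase 1 X ⁻¹' {x} : Set ↥(CohB1.ProjSpaceOver 1 X)),
        Cyc.divFun δP ω (tVal ω h0) p *
          (AlgebraicCycle.mapCoeff (CohB1.ProjSpaceOver.toBase 1 X) δP δ p : ℤ) =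
      Cyc.subschemeFun δ k (pullback.snd ι (P1.sect X 0)) x -
        Cyc.subschemeFun δ k (pullback.snd ι (P1.sect X 1)) x := by
  classical
  subst hι
  have hh1 : ι (genericPoint W) ∈ dom X 1 := (mem_dom_of_not_range hn0 hn1).2
  have hπ : ∀ i x, CohB1.ProjSpaceOver.toBase 1 X (P1.sect X i x) = x := fun i x => by
    rw [← Scheme.Hom.comp_apply, sect_toBase]; rfl
  have hoff : ∀ p, p ∉ Set.range (P1.sect X 0) → p ∉ Set.range (P1.sect X 1) →
      Cyc.divFun δP (ι (genericPoint W)) (tVal _ h0) p = 0 := by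
    intro p hp0 hp1
    unfold Cyc.divFun
    split
    · next hh =>
      have hp : p ∈ dom X 0 := (mem_dom_of_not_range hp0 hp1).1
      rw [show tVal _ h0 = rdu _ ((CohB1.ProjSpaceOver 1 X).presheaf.stalkSpecializes hh.1 (tStk 0 p hp)) from
        congrArg (rdu _) (spz_tStk 0 hh.1 hp).symm]
      exact C1Cap.ordAt_unit hh.1 (isUnit_tStk_of_not_range 0 hp hp0)
    · rfl
  have hterm : ∀ (i : Fin (1 + 1)) (hi : ι (genericPoint W) ∈ dom X i) (hn : ι (genericPoint W) ∉ Set.range (P1.sect X i)),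
      δ x = k → Cyc.divFun δP (ι (genericPoint W)) (rdu _ (tStk i _ hi)) (P1.sect X i x) =
        Cyc.subschemeFun δ k (pullback.snd ι (P1.sect X i)) x := by
    intro i hi hn hx
    rw [subschemeFun_sect i ι x hx]
    have hd : δP (P1.sect X i x) + 1 = δP (ι (genericPoint W)) := by rw [delta_sect hP, hx, hω]
    unfold Cyc.divFun
    by_cases h : ι (genericPoint W) ⤳ P1.sect X i x
    · rw [dif_pos ⟨h, hd⟩, dif_pos h]
      exact ordAt_coord hD i hn x h hd
    · rw [dif_neg fun hh => h hh.1, dif_neg h]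
  by_cases hx : δ x = k
  · have hc : ∀ i, (AlgebraicCycle.mapCoeff (CohB1.ProjSpaceOver.toBase 1 X) δP δ (P1.sect X i x) : ℤ) = 1 := by
      intro i
      rw [AlgebraicCycle.mapCoeff, if_pos ((delta_sect hP i x).trans (congrArg δ (hπ i x)).symm), residueDegree_sect]
      rfl
    rw [finsum_mem_eq_sum_of_subset (s := (CohB1.ProjSpaceOver.toBase 1 X ⁻¹' {x} : Set _))
      (t := {P1.sect X 0 x, P1.sect X 1 x}) _ (fun p hp => ?_) (fun p hp => ?_)]
    · rw [Finset.sum_pair (sect_ne x x), hc, hc, mul_one, mul_one]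
      have e0 := hterm 0 h0 hn0 hx
      have e1 := hterm 1 hh1 hn1 hx
      have einv : rdu (ι (genericPoint W)) (tStk 1 _ hh1) = (tVal _ h0)⁻¹ := by
        refine eq_inv_of_mul_eq_one_left ?_
        show rdu _ _ * rdu _ _ = 1
        rw [← map_mul, mul_comm, tStk_mul, map_one]
      rw [einv] at e1
      have e2 : Cyc.divFun δP (ι (genericPoint W)) (tVal _ h0)⁻¹ (P1.sect X 1 x) =
          -Cyc.divFun δP (ι (genericPoint W)) (tVal _ h0) (P1.sect X 1 x) := by
        unfold Cyc.divFun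
        split
        · next hh => rw [C1Cap.ordAt_inv _ (tVal_ne_zero h0 hn0)]
        · rw [neg_zero]
      rw [e2] at e1
      rw [← e0, ← e1]
      show _ = _ - _
      rw [sub_neg_eq_add]
      rfl
    · obtain ⟨hpx, hp'⟩ := hp
      by_contra hmem
      simp only [Finset.coe_insert, Finset.coe_singleton, Set.mem_insert_iff, Set.mem_singleton_iff, not_or] at hmem
      refine hp' ?_
      show _ * _ = _
      rw [hoff p ?_ ?_, zero_mul] <;>
      · rintro ⟨y, rfl⟩
        change CohB1.ProjSpaceOver.toBase 1 X (P1.sect X _ y) = x at hpx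
        rw [hπ] at hpx
        subst hpx
        first | exact hmem.1 rfl | exact hmem.2 rfl
    · rcases Finset.mem_insert.1 (Finset.mem_coe.1 hp) with rfl | hp
      · exact hπ 0 x
      · rw [Finset.mem_singleton.1 hp]; exact hπ 1 x
  · unfold Cyc.subschemeFun
    rw [if_neg hx, if_neg hx, sub_zero]
    refine finsum_mem_eq_zero_of_forall_eq_zero fun p hp => ?_
    by_contra hne
    obtain ⟨hd, hc⟩ := mul_ne_zero_iff.1 hne
    have hdp := (CycDeg.divFun_delta hd).2
    have hw : δP p = δ (CohB1.ProjSpaceOver.toBase 1 X p) := by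
      by_contra h
      exact hc (by simp [AlgebraicCycle.mapCoeff, h])
    rw [show CohB1.ProjSpaceOver.toBase 1 X p = x from hp] at hw
    omega

end Groth.Agent.P1Div
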