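import Groth.Agent.P1Div.Push
import Groth.Agent.CycDim.RatBasic
import Groth.Agent.CycDim.OrdSum
import Mathlib

/-!
The fibres at zero and infinity of a cycle on the projective line are rationally equivalent.
-/

set_option autoImplicit false
set_option linter.style.haveILetI false
set_option backward.isDefEq.respectTransparency false

universe u

open CategoryTheory CategoryTheory.Limits AlgebraicGeometry TopologicalSpace IsLocalRing
open Groth.Agent.C1Cap (rdu)
open Groth.Agent.CDivNormal (genPrime)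
open Groth.Agent.CycDim (coef)

noncomputable section

namespace Groth.Agent.P1Div

variable {X : Scheme.{u}} [IsLocallyNoetherian X] {δ : X → ℤ} {δP : ↥(CohB1.ProjSpaceOver 1 X) → ℤ}

open Classical in
/-- The fibre of a combination of subvarieties at a section, as a sum of intersection multiplicities. -/
def secSum (δ : X → ℤ) (k : ℤ) (m : ↥(CohB1.ProjSpaceOver 1 X) → ℤ) (i : Fin (1 + 1)) (x : X) : ℤ :=
  if δ x = k then ∑ᶠ ω : ↥(CohB1.ProjSpaceOver 1 X),
    if h : ω ⤳ P1.sect X i x then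
      m ω * ((coef (tStk i _ (mem_dom_sect i x)) ⟨genPrime h, inferInstance⟩).toNat : ℤ)
    else 0
  else 0

/-- The fibres at zero and infinity are rationally equivalent. -/
theorem ratEquiv_fibres (hX : Cyc.IsSetup X δ) (hP : Cyc.DeltaCompat (CohB1.ProjSpaceOver.toBase 1 X) δP δ) (k : ℤ)
    (m : ↥(CohB1.ProjSpaceOver 1 X) → ℤ)
    (hm : ∀ p, m p ≠ 0 → δP p = k + 1 ∧ p ∉ Set.range (P1.sect X 0) ∧ p ∉ Set.range (P1.sect X 1))
    (hfin : ∀ {U : (CohB1.ProjSpaceOver 1 X).Opens}, IsAffineOpen U → {p | p ∈ U ∧ m p ≠ 0}.Finite)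
    (α β : AlgebraicCycle X ℤ) (hα : ∀ x, α x = secSum δ k m 0 x) (hβ : ∀ x, β x = secSum δ k m 1 x) :
    Cyc.RatEquiv δ k α β := by
  classical
  haveI := isLocallyNoetherian_over (X := X)
  have hD := isDimFun_over hX hP
  let π := CohB1.ProjSpaceOver.toBase 1 X
  let J : Type u := {ω : ↥(CohB1.ProjSpaceOver 1 X) // m ω ≠ 0}
  have hdom : ∀ j : J, j.1 ∈ dom X 0 ∧ j.1 ∈ dom X 1 := fun j =>
    mem_dom_of_not_range (hm _ j.2).2.1 (hm _ j.2).2.2
  let G : (j : J) → (CohB1.ProjSpaceOver 1 X).residueField j.1 := fun j => tVal j.1 (hdom j).1 ^ m j.1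
  have hG : ∀ j, G j ≠ 0 := fun j => zpow_ne_zero _ (tVal_ne_zero _ (hm _ j.2).2.1)
  let M : AlgebraicCycle (CohB1.ProjSpaceOver 1 X) ℤ := CycLim.mkCycle m hfin
  have hloc : ∀ p : ↥(CohB1.ProjSpaceOver 1 X), ∃ U : Set ↥(CohB1.ProjSpaceOver 1 X), IsOpen U ∧ p ∈ U ∧
      {j : J | (closure {j.1} ∩ U).Nonempty}.Finite := by
    intro p
    obtain ⟨U, hU, hpU, -⟩ := exists_isAffineOpen_mem_and_subset (x := p)
      (U := (⊤ : (CohB1.ProjSpaceOver 1 X).Opens)) trivial
    refine ⟨U, U.2, hpU, ((hfin hU).preimage Subtype.val_injective.injOn).subset ?_⟩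
    rintro j ⟨z, hz, hzU⟩
    exact ⟨(specializes_iff_mem_closure.2 hz).mem_open U.2 hzU, j.2⟩
  let F : ↥(CohB1.ProjSpaceOver 1 X) → ℤ := fun p => ∑ᶠ j : J, Cyc.divFun δP j.1 (G j) p
  have hF : ∀ {U : (CohB1.ProjSpaceOver 1 X).Opens}, IsAffineOpen U → {p | p ∈ U ∧ F p ≠ 0}.Finite := by
    intro U hU
    refine (((hfin hU).preimage Subtype.val_injective.injOn).biUnion fun (j : J) _ =>
      CycDiv.finite_divFun hD j.1 (hG j) hU).subset ?_
    rintro p ⟨hpU, hp⟩
    obtain ⟨j, hj⟩ : ∃ j, Cyc.divFun δP j.1 (G j) p ≠ 0 := by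
      by_contra hall
      exact hp (finsum_eq_zero_of_forall_eq_zero fun j => not_not.1 fun hne => hall ⟨j, hne⟩)
    exact Set.mem_biUnion (x := j) ⟨(CycDeg.divFun_delta hj).1.mem_open U.2 hpU, j.2⟩ ⟨hpU, hj⟩
  let D := CycLim.mkCycle F hF
  have hpow : ∀ (j : J) p, Cyc.divFun δP j.1 (G j) p = m j.1 * Cyc.divFun δP j.1 (tVal j.1 (hdom j).1) p := by
    intro j p
    unfold Cyc.divFun
    split
    · next h => rw [C1Cap.ordAt_zpow _ (tVal_ne_zero _ (hm _ j.2).2.1)]
    · rw [mul_zero]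
  have hoff : ∀ p, p ∉ Set.range (P1.sect X 0) → p ∉ Set.range (P1.sect X 1) → F p = 0 := by
    intro p hp0 hp1
    refine finsum_eq_zero_of_forall_eq_zero fun j => ?_
    rw [hpow]
    unfold Cyc.divFun
    split
    · next hh =>
      have hp : p ∈ dom X 0 := (mem_dom_of_not_range hp0 hp1).1
      rw [show tVal _ (hdom j).1 = rdu _ ((CohB1.ProjSpaceOver 1 X).presheaf.stalkSpecializes hh.1 (tStk 0 p hp)) from
        congrArg (rdu _) (spz_tStk 0 hh.1 hp).symm,
        C1Cap.ordAt_unit hh.1 (isUnit_tStk_of_not_range 0 hp hp0), mul_zero]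
    · rw [mul_zero]
  have hterm : ∀ (i : Fin (1 + 1)) (x : X), δ x = k → ∀ (j : J) (hi : j.1 ∈ dom X i)
      (_ : j.1 ∉ Set.range (P1.sect X i)),
      Cyc.divFun δP j.1 (rdu _ (tStk i j.1 hi)) (P1.sect X i x) =
        if h : j.1 ⤳ P1.sect X i x then ((coef (tStk i _ (mem_dom_sect i x)) ⟨genPrime h, inferInstance⟩).toNat : ℤ)
        else 0 := by
    intro i x hx j hi hn
    have hd : δP (P1.sect X i x) + 1 = δP j.1 := by rw [delta_sect hP, hx, (hm _ j.2).1]
    unfold Cyc.divFun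
    by_cases h : j.1 ⤳ P1.sect X i x
    · rw [dif_pos ⟨h, hd⟩, dif_pos h]
      exact ordAt_coord hD i hn x h hd
    · rw [dif_neg fun hh => h hh.1, dif_neg h]
  have hsec : ∀ (i : Fin (1 + 1)) (x : X), δ x = k →
      secSum δ k m i x = ∑ᶠ j : J, m j.1 * (if h : j.1 ⤳ P1.sect X i x then
        ((coef (tStk i _ (mem_dom_sect i x)) ⟨genPrime h, inferInstance⟩).toNat : ℤ) else 0) := by
    intro i x hx
    rw [secSum, if_pos hx]
    refine Eq.trans ?_ (finsum_subtype_eq_finsum_cond (f := fun ω => m ω * (if h : ω ⤳ P1.sect X i x then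
        ((coef (tStk i _ (mem_dom_sect i x)) ⟨genPrime h, inferInstance⟩).toNat : ℤ) else 0))
      (fun ω => m ω ≠ 0)).symm
    refine finsum_congr fun ω => ?_
    rw [finsum_eq_if]
    by_cases h0 : m ω = 0
    · rw [if_neg (not_not.2 h0)]
      split
      · rw [h0, zero_mul]
      · rfl
    · rw [if_pos h0]
      split
      · rfl
      · rw [mul_zero]
  refine CycPush.ratEquivZero_map π hD hX.2.2 hP k D
    ⟨J, fun j => j.1, G, fun j => (hm _ j.2).1, hG, hloc, fun p => rfl⟩ _ fun x => ?_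
  show α x - β x = _
  rw [hα, hβ]
  by_cases hx : δ x = k
  · have hπ : ∀ i y, π (P1.sect X i y) = y := fun i y => by
      rw [← Scheme.Hom.comp_apply, sect_toBase]; rfl
    have hc : ∀ i, (AlgebraicCycle.mapCoeff π δP δ (P1.sect X i x) : ℤ) = 1 := by
      intro i
      rw [AlgebraicCycle.mapCoeff, if_pos ((delta_sect hP i x).trans (congrArg δ (hπ i x)).symm),
        residueDegree_sect]
      rfl
    rw [finsum_mem_eq_sum_of_subset (s := (π ⁻¹' {x} : Set _))
      (t := {P1.sect X 0 x, P1.sect X 1 x}) _ (fun p hp => ?_) (fun p hp => ?_)]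
    · rw [Finset.sum_pair (sect_ne x x), hc, hc, mul_one, mul_one, hsec 0 x hx, hsec 1 x hx, sub_eq_add_neg,
        ← finsum_neg_distrib]
      refine congrArg₂ (· + ·) (finsum_congr fun j => ?_) (finsum_congr fun j => ?_)
      · rw [hpow, ← hterm 0 x hx j (hdom j).1 (hm _ j.2).2.1]
        rfl
      · rw [hpow, ← hterm 1 x hx j (hdom j).2 (hm _ j.2).2.2]
        have einv : rdu j.1 (tStk 1 j.1 (hdom j).2) = (tVal j.1 (hdom j).1)⁻¹ := by
          refine eq_inv_of_mul_eq_one_left ?_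
          show rdu _ _ * rdu _ _ = 1
          rw [← map_mul, mul_comm, tStk_mul, map_one]
        rw [einv, ← mul_neg]
        congr 1
        unfold Cyc.divFun
        split
        · next hh => rw [C1Cap.ordAt_inv _ (tVal_ne_zero _ (hm _ j.2).2.1), neg_neg]
        · rw [neg_zero]
    · obtain ⟨hpx, hp'⟩ := hp
      by_contra hmem
      simp only [Finset.coe_insert, Finset.coe_singleton, Set.mem_insert_iff, Set.mem_singleton_iff, not_or] at hmem
      refine hp' ?_
      show F p * _ = _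
      rw [hoff p ?_ ?_, zero_mul] <;>
      · rintro ⟨y, rfl⟩
        change π (P1.sect X _ y) = x at hpx
        rw [hπ] at hpx
        subst hpx
        first | exact hmem.1 rfl | exact hmem.2 rfl
    · rcases Finset.mem_insert.1 (Finset.mem_coe.1 hp) with rfl | hp
      · exact hπ 0 x
      · rw [Finset.mem_singleton.1 hp]; exact hπ 1 x
  · rw [secSum, secSum, if_neg hx, if_neg hx, sub_zero]
    refine (finsum_mem_eq_zero_of_forall_eq_zero fun p hp => ?_).symm
    by_contra hne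
    obtain ⟨hd, hc⟩ := mul_ne_zero_iff.1 hne
    obtain ⟨j, hj⟩ : ∃ j, Cyc.divFun δP j.1 (G j) p ≠ 0 := by
      by_contra hall
      exact hd (finsum_eq_zero_of_forall_eq_zero fun j => not_not.1 fun hne => hall ⟨j, hne⟩)
    have hdp := (CycDeg.divFun_delta hj).2
    have := (hm _ j.2).1
    have hw : δP p = δ (π p) := by
      by_contra h
      exact hc (by simp [AlgebraicCycle.mapCoeff, π] at *; simp [h])
    rw [show π p = x from hp] at hw
    omega

end Groth.Agent.P1Div
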