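import Groth.Agent.P1Div.Factor
import Groth.Agent.ProjMor.Over
import Groth.Agent.ProjMor.Morph
import Groth.Prelude.Def_P1
import Mathlib

/-!
The coordinates of the projective line and the kernels of its two sections.
-/

set_option autoImplicit false
set_option linter.style.haveILetI false
set_option backward.isDefEq.respectTransparency false

universe u

open CategoryTheory CategoryTheory.Limits AlgebraicGeometry TopologicalSpace IsLocalRing
open ProjMor (chart ratio pz ev)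

noncomputable section

namespace Groth.Agent.P1Div

variable {X : Scheme.{u}}

/-- The other index. -/
theorem ne_succ (i : Fin (1 + 1)) : i + 1 ≠ i := by fin_cases i <;> simp

theorem eq_or_eq_succ (i j : Fin (1 + 1)) : j = i ∨ j = i + 1 := by fin_cases i <;> fin_cases j <;> simp

/-- The coordinate on the chart. -/
def u (i : Fin (1 + 1)) : Γ(CohB1.ProjSpace 1 (ULift.{u} ℤ), chart.{u} 1 i) := ratio 1 i (i + 1)

theorem awayι_eq (i : Fin (1 + 1)) :
    Proj.awayι P1.grading.{u} (P1.T i) (P1.X_mem i) one_pos =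
      Spec.map (Proj.basicOpenIsoAway P1.grading.{u} (P1.T i) (P1.X_mem i) one_pos).inv ≫
        (ProjMor.isAffineOpen_chart.{u} 1 i).fromSpec := by
  rw [Proj.awayι, Iso.inv_comp_eq]
  let D : (Proj P1.grading.{u}).Opens := Proj.basicOpen P1.grading.{u} (P1.T i)
  show D.ι = _ ≫ Spec.map _ ≫ (ProjMor.isAffineOpen_chart.{u} 1 i).isoSpec.inv ≫ D.ι
  rw [Proj.basicOpenIsoSpec_hom, Proj.basicOpenToSpec]
  simp only [Category.assoc, ← Spec.map_comp_assoc]
  rw [show (Proj.basicOpenIsoAway P1.grading.{u} (P1.T i) (P1.X_mem i) one_pos).inv ≫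
    Proj.awayToSection P1.grading.{u} (P1.T i) = 𝟙 _ from
      (Proj.basicOpenIsoAway P1.grading.{u} (P1.T i) (P1.X_mem i) one_pos).inv_hom_id]
  erw [Spec.map_id, Category.id_comp]
  exact ((ProjMor.isAffineOpen_chart.{u} 1 i).isoSpec.hom_inv_id_assoc D.ι).symm

theorem le_point (i : Fin (1 + 1)) : ⊤ ≤ P1.point.{u} i ⁻¹ᵁ chart 1 i := fun z _ => by
  show Proj.awayι P1.grading.{u} (P1.T i) (P1.X_mem i) one_pos _ ∈ Proj.basicOpen P1.grading.{u} (P1.T i)
  rw [← Proj.opensRange_awayι P1.grading.{u} (P1.T i) (P1.X_mem i) one_pos]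
  exact ⟨_, rfl⟩

theorem point_u (i : Fin (1 + 1)) : ev (P1.point.{u} i) (chart 1 i) ⊤ (le_point i) (u i) = 0 := by
  let φ : MvPolynomial (Fin (1 + 1)) P1.R0.{u} →+* P1.R0.{u} :=
    (MvPolynomial.aeval (Pi.single i (1 : P1.R0.{u}) : Fin (1 + 1) → P1.R0)).toRingHom
  have hφ : φ (P1.T i) = 1 := by simp [φ]
  let m : Γ(CohB1.ProjSpace 1 (ULift.{u} ℤ), chart 1 i) ⟶ CommRingCat.of P1.R0.{u} :=
    CommRingCat.ofHom (ProjMor.chartHom (P1.X_mem i) φ hφ)
  have hp : P1.point.{u} i = Spec.map m ≫ (ProjMor.isAffineOpen_chart.{u} 1 i).fromSpec := by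
    rw [P1.point, awayι_eq, ← Spec.map_comp_assoc]
    rfl
  have H : ∀ (p : Spec (CommRingCat.of P1.R0.{u}) ⟶ CohB1.ProjSpace 1 (ULift.{u} ℤ))
      (_ : p = Spec.map m ≫ (ProjMor.isAffineOpen_chart.{u} 1 i).fromSpec) (h : ⊤ ≤ p ⁻¹ᵁ chart 1 i),
      p.appLE (chart 1 i) ⊤ h = m ≫ (Scheme.ΓSpecIso _).inv := by
    rintro p rfl h
    rw [Scheme.ΓSpecIso_inv_naturality m]
    simp [Scheme.Hom.appLE, IsAffineOpen.fromSpec_app_self, Category.assoc]
    rfl
  refine (congrArg (fun q => q (u i)) (H _ hp (le_point i))).trans ?_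
  show (Scheme.ΓSpecIso (CommRingCat.of P1.R0.{u})).inv
    (ProjMor.chartHom (P1.X_mem i) φ hφ (GrT.deh P1.grading.{u} (P1.X_mem i) (MvPolynomial.X (i + 1)))) = 0
  rw [ProjMor.chartHom_deh]
  simp [φ, ne_succ i, Pi.single_apply]

/-- Functions on a chart are constants up to multiples of the coordinate. -/
theorem exists_eq_int_add (i : Fin (1 + 1)) (a : Γ(CohB1.ProjSpace 1 (ULift.{u} ℤ), chart 1 i)) :
    ∃ (n : ℤ) (c : Γ(CohB1.ProjSpace 1 (ULift.{u} ℤ), chart 1 i)), a = (n : _) + u i * c := by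
  obtain ⟨P, rfl⟩ := ProjMor.exists_deh_eq (𝒜 := P1.grading.{u}) (P1.X_mem i) a
  induction P using MvPolynomial.induction_on with
  | C r =>
    refine ⟨r.down, 0, ?_⟩
    rw [mul_zero, add_zero]
    have : (MvPolynomial.C r : MvPolynomial (Fin (1 + 1)) P1.R0.{u}) = (r.down : MvPolynomial (Fin (1 + 1)) P1.R0.{u}) := by
      rw [← map_intCast (MvPolynomial.C : P1.R0.{u} →+* MvPolynomial (Fin (1 + 1)) P1.R0.{u}) r.down]
      congr 1
    rw [this]
    exact map_intCast _ _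
  | add p q hp hq =>
    obtain ⟨m, c, hc⟩ := hp
    obtain ⟨n, d, hd⟩ := hq
    refine ⟨m + n, c + d, ?_⟩
    rw [map_add, hc, hd, Int.cast_add]; ring
  | mul_X p j hp =>
    obtain ⟨m, c, hc⟩ := hp
    rcases eq_or_eq_succ i j with rfl | rfl
    · refine ⟨m, c, ?_⟩
      rw [map_mul, show GrT.deh P1.grading.{u} (P1.X_mem j) (MvPolynomial.X j) = 1 from GrT.deh_self _ _, mul_one, hc]
    · refine ⟨0, GrT.deh P1.grading.{u} (P1.X_mem i) p, ?_⟩
      rw [map_mul, Int.cast_zero, zero_add, mul_comm]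
      rfl

/-- The domain of a coordinate. -/
abbrev dom (X : Scheme.{u}) (i : Fin (1 + 1)) : (CohB1.ProjSpaceOver 1 X).Opens := pz 1 X ⁻¹ᵁ chart 1 i

theorem dom_cover (p : ↥(CohB1.ProjSpaceOver 1 X)) : p ∈ dom X 0 ∨ p ∈ dom X 1 := by
  let q : ↥(Proj P1.grading.{u}) := pz 1 X p
  by_contra h
  push Not at h
  have hX : ∀ j : Fin (1 + 1), (MvPolynomial.X j : MvPolynomial (Fin (1 + 1)) P1.R0.{u}) ∈ q.asHomogeneousIdeal := by
    intro j
    by_contra hj
    have hq : q ∈ Proj.basicOpen P1.grading.{u} (MvPolynomial.X j) := (ProjectiveSpectrum.mem_basicOpen _ _ q).2 hj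
    fin_cases j
    · exact h.1 hq
    · exact h.2 hq
  refine q.not_irrelevant_le fun a ha => ?_
  rw [HomogeneousIdeal.mem_irrelevant_iff] at ha
  have hconst : MvPolynomial.coeff 0 a = 0 := by
    rw [GradedRing.proj_apply] at ha
    have h0 : MvPolynomial.homogeneousComponent 0 a = 0 :=
      (MvPolynomial.decomposition.decompose'_apply a 0).symm.trans ha
    simpa [MvPolynomial.coeff_homogeneousComponent] using congrArg (MvPolynomial.coeff 0) h0
  show a ∈ q.asHomogeneousIdeal.toIdeal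
  rw [a.as_sum]
  refine Ideal.sum_mem _ fun d hd => ?_
  obtain ⟨j, hj⟩ : ∃ j, d j ≠ 0 := by
    by_contra hall
    push Not at hall
    obtain rfl : d = 0 := Finsupp.ext hall
    exact (MvPolynomial.mem_support_iff.1 hd) hconst
  rw [MvPolynomial.monomial_eq, Finsupp.prod_fintype _ _ (fun _ => pow_zero _)]
  refine Ideal.mul_mem_left _ _ ?_
  rw [← Finset.mul_prod_erase _ _ (Finset.mem_univ j)]
  exact Ideal.mul_mem_right _ _ (Ideal.pow_mem_of_mem _ (hX j) _ (Nat.pos_of_ne_zero hj))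

/-- The germ of the coordinate. -/
def tStk (i : Fin (1 + 1)) (p : ↥(CohB1.ProjSpaceOver 1 X)) (hp : p ∈ dom X i) :
    (CohB1.ProjSpaceOver 1 X).presheaf.stalk p :=
  (CohB1.ProjSpaceOver 1 X).presheaf.germ (dom X i) p hp ((pz 1 X).app (chart 1 i) (u i))

theorem spz_tStk (i : Fin (1 + 1)) {p q : ↥(CohB1.ProjSpaceOver 1 X)} (h : q ⤳ p) (hp : p ∈ dom X i) :
    ((CohB1.ProjSpaceOver 1 X).presheaf.stalkSpecializes h).hom (tStk i p hp) =
      tStk i q (h.mem_open (dom X i).2 hp) :=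
  TopCat.Presheaf.germ_stalkSpecializes_apply (F := (CohB1.ProjSpaceOver 1 X).presheaf) (U := dom X i) (y := p) hp h _

theorem tStk_mul (p : ↥(CohB1.ProjSpaceOver 1 X)) (h0 : p ∈ dom X 0) (h1 : p ∈ dom X 1) :
    tStk 0 p h0 * tStk 1 p h1 = 1 := by
  let P := CohB1.ProjSpaceOver 1 X
  let V := dom X 0 ⊓ dom X 1
  have e := congrArg (ev (pz 1 X) (chart 1 0 ⊓ chart 1 1) V le_rfl)
    (GrT.deh_inv P1.grading.{u} (P1.X_mem 0) (P1.X_mem 1) 1 (V := chart 1 0 ⊓ chart 1 1) inf_le_left inf_le_right)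
  rw [pow_one, pow_one, map_mul, map_one] at e
  have k : ∀ (j : Fin (1 + 1)) (hj : chart.{u} 1 0 ⊓ chart 1 1 ≤ chart 1 j) (hpj : p ∈ dom X j)
      (a : Γ(CohB1.ProjSpace 1 (ULift.{u} ℤ), chart 1 j)),
      P.presheaf.germ (dom X j) p hpj ((pz 1 X).app (chart 1 j) a) =
        P.presheaf.germ V p ⟨h0, h1⟩ (ev (pz 1 X) (chart 1 0 ⊓ chart 1 1) V le_rfl
          (Groth.Agent.QC.resO (CohB1.ProjSpace 1 (ULift.{u} ℤ)) hj a)) := by
    intro j hj hpj a
    rw [ProjMor.ev_resO]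
    exact (TopCat.Presheaf.germ_res_apply P.presheaf (homOfLE ((pz 1 X).preimage_mono hj)) p ⟨h0, h1⟩ _).symm
  have e' := congrArg (P.presheaf.germ V p ⟨h0, h1⟩) e
  rw [map_mul, map_one] at e'
  exact (congrArg₂ (· * ·) (k 0 inf_le_left h0 (u 0)) (k 1 inf_le_right h1 (u 1))).trans e'

/-- A point where the coordinate is a unit lies in the other chart. -/
theorem mem_dom_of_isUnit (i : Fin (1 + 1)) (p : ↥(CohB1.ProjSpaceOver 1 X)) (hp : p ∈ dom X i)
    (hu : IsUnit (tStk i p hp)) : p ∈ dom X (i + 1) := by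
  have h : p ∈ (CohB1.ProjSpaceOver 1 X).basicOpen ((pz 1 X).app (chart 1 i) (u i)) :=
    ((CohB1.ProjSpaceOver 1 X).mem_basicOpen _ p hp).2 hu
  rw [← Scheme.preimage_basicOpen] at h
  have hb : pz 1 X p ∈ (CohB1.ProjSpace 1 (ULift.{u} ℤ)).basicOpen (u i) := h
  have hmem : (MvPolynomial.X (i + 1) : MvPolynomial (Fin (1 + 1)) P1.R0.{u}) ∈ P1.grading (1 • 1) := by
    simpa using P1.X_mem (i + 1)
  have hD := GrT.basicOpen_away P1.grading.{u} (P1.X_mem i) one_pos one_pos hmem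
  rw [← GrT.deh_of_mem P1.grading.{u} (P1.X_mem i) (P1.X_mem (i + 1))] at hD
  have hb' : pz 1 X p ∈ (Proj P1.grading.{u}).basicOpen (GrT.deh P1.grading.{u} (P1.X_mem i) (MvPolynomial.X (i + 1))) := hb
  rw [hD, Proj.basicOpen_mul] at hb'
  exact hb'.2

variable (X)

theorem le_sect (i : Fin (1 + 1)) : ⊤ ≤ P1.sect X i ⁻¹ᵁ dom X i := fun x _ => by
  show pz 1 X (P1.sect X i x) ∈ chart 1 i
  rw [← Scheme.Hom.comp_apply, show P1.sect X i ≫ pz 1 X = specULiftZIsTerminal.from X ≫ P1.point i from pullback.lift_fst _ _ _]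
  exact le_point i (x := specULiftZIsTerminal.from X x) trivial

theorem sect_toBase (i : Fin (1 + 1)) : P1.sect X i ≫ CohB1.ProjSpaceOver.toBase 1 X = 𝟙 X :=
  pullback.lift_snd _ _ _

instance isProper_toBase : IsProper (CohB1.ProjSpaceOver.toBase 1 X) := by
  haveI := ProjMor.isProper_toSpec 1 (ULift.{u} ℤ)
  exact inferInstanceAs (IsProper (pullback.snd (CohB1.ProjSpace.toSpec 1 (ULift.{u} ℤ)) (specULiftZIsTerminal.from X)))

instance isClosedImmersion_sect (i : Fin (1 + 1)) : IsClosedImmersion (P1.sect X i) := by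
  haveI : IsClosedImmersion (P1.sect X i ≫ CohB1.ProjSpaceOver.toBase 1 X) := by
    rw [sect_toBase]; infer_instance
  exact IsClosedImmersion.of_comp (P1.sect X i) (CohB1.ProjSpaceOver.toBase 1 X)

theorem sect_tStk (i : Fin (1 + 1)) (x : X) (hp : P1.sect X i x ∈ dom X i) :
    ((P1.sect X i).stalkMap x).hom (tStk i _ hp) = 0 := by
  rw [tStk]
  refine (Scheme.Hom.germ_stalkMap_apply (P1.sect X i) (dom X i) x hp _).trans ?_
  have e : ev (P1.sect X i ≫ pz 1 X) (chart 1 i) ⊤ (le_sect X i) (u i) = 0 := by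
    have H : ∀ (m : X ⟶ CohB1.ProjSpace 1 (ULift.{u} ℤ)) (_ : m = specULiftZIsTerminal.from X ≫ P1.point i)
        (h : ⊤ ≤ m ⁻¹ᵁ chart 1 i), ev m (chart 1 i) ⊤ h (u i) = 0 := by
      rintro m rfl h
      show ((specULiftZIsTerminal.from X ≫ P1.point i).appLE (chart 1 i) ⊤ h).hom (u i) = 0
      rw [← Scheme.Hom.appLE_comp_appLE (specULiftZIsTerminal.from X) (P1.point i) (chart 1 i) ⊤ ⊤ (le_point i) le_top]
      show ((specULiftZIsTerminal.from X).appLE ⊤ ⊤ le_top).hom (ev (P1.point i) (chart 1 i) ⊤ (le_point i) (u i)) = 0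
      rw [point_u, map_zero]
    exact H _ (pullback.lift_fst _ _ _) _
  have e' := congrArg (X.presheaf.germ ⊤ x trivial) e
  rw [map_zero] at e'
  refine Eq.trans ?_ e'
  show _ = X.presheaf.germ ⊤ x trivial ((P1.sect X i ≫ pz 1 X).appLE (chart 1 i) ⊤ (le_sect X i) (u i))
  rw [← Scheme.Hom.appLE_comp_appLE (P1.sect X i) (pz 1 X) (chart 1 i) (dom X i) ⊤ le_rfl (le_sect X i)]
  erw [← Scheme.Hom.app_eq_appLE]
  exact (TopCat.Presheaf.germ_res_apply X.presheaf (homOfLE (le_sect X i)) x trivial _).symm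

variable {X}

/-- Through a thickened point where the coordinate vanishes, the section factors. -/
theorem exists_factor (i : Fin (1 + 1)) (p : ↥(CohB1.ProjSpaceOver 1 X)) (hp : p ∈ dom X i)
    (J : Ideal ((CohB1.ProjSpaceOver 1 X).presheaf.stalk p)) (hJ : J ≠ ⊤) (ht : tStk i p hp ∈ J) :
    ∃ g, g ≫ P1.sect X i = phi p J := by
  haveI := isLocalRing_quot hJ
  let L := Spec (CommRingCat.of (↥((CohB1.ProjSpaceOver 1 X).presheaf.stalk p) ⧸ J))
  let g : L ⟶ X := phi p J ≫ CohB1.ProjSpaceOver.toBase 1 X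
  refine ⟨g, ?_⟩
  refine pullback.hom_ext ?_ ?_
  · show (g ≫ P1.sect X i) ≫ pz 1 X = phi p J ≫ pz 1 X
    rw [Category.assoc, show P1.sect X i ≫ pz 1 X = specULiftZIsTerminal.from X ≫ P1.point i from pullback.lift_fst _ _ _,
      ← Category.assoc, specULiftZIsTerminal.hom_ext (g ≫ specULiftZIsTerminal.from X) (specULiftZIsTerminal.from L)]
    have h1 : (⊤ : L.Opens) ≤ (specULiftZIsTerminal.from L ≫ P1.point i) ⁻¹ᵁ chart 1 i :=
      fun z _ => le_point i (x := specULiftZIsTerminal.from L z) trivial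
    have h2 : (⊤ : L.Opens) ≤ (phi p J ≫ pz 1 X) ⁻¹ᵁ chart 1 i := le_phi_preimage (V := dom X i) hp
    haveI : IsIso (⊤ : L.Opens).ι := inferInstanceAs (IsIso L.topIso.hom)
    rw [← cancel_epi (⊤ : L.Opens).ι]
    refine ProjMor.ι_comp_eq_of_ev_eq (ProjMor.isAffineOpen_chart 1 i) _ _ h1 h2 (RingHom.ext fun a => ?_)
    obtain ⟨n, c, rfl⟩ := exists_eq_int_add i a
    have z1 : ev (specULiftZIsTerminal.from L ≫ P1.point i) (chart 1 i) ⊤ h1 (u i) = 0 := by
      show ((specULiftZIsTerminal.from L ≫ P1.point i).appLE (chart 1 i) ⊤ h1).hom (u i) = 0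
      rw [← Scheme.Hom.appLE_comp_appLE (specULiftZIsTerminal.from L) (P1.point i) (chart 1 i) ⊤ ⊤ (le_point i) le_top]
      show ((specULiftZIsTerminal.from L).appLE ⊤ ⊤ le_top).hom (ev (P1.point i) (chart 1 i) ⊤ (le_point i) (u i)) = 0
      rw [point_u, map_zero]
    have z2 : ev (phi p J ≫ pz 1 X) (chart 1 i) ⊤ h2 (u i) = 0 := by
      show ((phi p J ≫ pz 1 X).appLE (chart 1 i) ⊤ h2).hom (u i) = 0
      rw [← Scheme.Hom.appLE_comp_appLE (phi p J) (pz 1 X) (chart 1 i) (dom X i) ⊤ le_rfl (le_phi_preimage hp),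
        ← Scheme.Hom.app_eq_appLE]
      show ((phi p J).appLE (dom X i) ⊤ _).hom _ = 0
      rw [phi_appLE p J hp]
      refine (congrArg _ (Ideal.Quotient.eq_zero_iff_mem.2 ht)).trans (map_zero _)
    rw [map_add, map_add, map_intCast, map_intCast, map_mul, map_mul, z1, z2, zero_mul, zero_mul]
  · show (g ≫ P1.sect X i) ≫ CohB1.ProjSpaceOver.toBase 1 X = phi p J ≫ CohB1.ProjSpaceOver.toBase 1 X
    rw [Category.assoc, sect_toBase, Category.comp_id]

theorem ker_sect (i : Fin (1 + 1)) (x : X) (hp : P1.sect X i x ∈ dom X i) :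
    RingHom.ker ((P1.sect X i).stalkMap x).hom = Ideal.span {tStk i _ hp} := by
  refine le_antisymm (fun a ha => ?_) ((Ideal.span_singleton_le_iff_mem _).2 (sect_tStk X i x hp))
  have hJ : Ideal.span {tStk i _ hp} ≠ ⊤ := fun h => RingHom.ker_ne_top ((P1.sect X i).stalkMap x).hom
    (top_le_iff.1 (h.symm.le.trans ((Ideal.span_singleton_le_iff_mem _).2 (sect_tStk X i x hp))))
  obtain ⟨g, hg⟩ := exists_factor i _ hp _ hJ (Ideal.mem_span_singleton_self _)
  exact ker_le (P1.sect X i) (P1.sect X i).isClosedEmbedding.injective x _ hJ g hg ha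

/-- The section consists of the zeros of the coordinate. -/
theorem mem_range_sect (i : Fin (1 + 1)) (p : ↥(CohB1.ProjSpaceOver 1 X)) (hp : p ∈ dom X i)
    (hu : ¬ IsUnit (tStk i p hp)) : p ∈ Set.range (P1.sect X i) := by
  have hm : tStk i p hp ∈ maximalIdeal ((CohB1.ProjSpaceOver 1 X).presheaf.stalk p) := (mem_maximalIdeal _).2 hu
  have hJ : maximalIdeal ((CohB1.ProjSpaceOver 1 X).presheaf.stalk p) ≠ ⊤ := (maximalIdeal.isMaximal _).ne_top
  obtain ⟨g, hg⟩ := exists_factor i p hp _ hJ hm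
  haveI := isLocalRing_quot hJ
  refine ⟨g (closedPoint _), ?_⟩
  rw [← Scheme.Hom.comp_apply, hg]
  exact phi_closedPoint

end Groth.Agent.P1Div
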