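import Groth.Agent.P1Div.Graph
import Groth.Agent.P1Div.Delta
import Groth.Agent.CycDim.DegBase
import Mathlib

/-!
Every principal divisor is the difference of the two fibres of a subvariety of the projective line.
-/

set_option autoImplicit false
set_option linter.style.haveILetI false
set_option backward.isDefEq.respectTransparency false

universe u

open CategoryTheory CategoryTheory.Limits AlgebraicGeometry TopologicalSpace
open ProjMor (pz)

noncomputable section

namespace Groth.Agent.P1Div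

variable {X : Scheme.{u}} [IsLocallyNoetherian X] {δ : X → ℤ} {δP : ↥(CohB1.ProjSpaceOver 1 X) → ℤ}

theorem evaluation_spec_surjective {K : Type u} [Field K] (t : Spec (CommRingCat.of K)) :
    Function.Surjective ((Spec (CommRingCat.of K)).evaluation ⊤ t trivial).hom := by
  intro v
  have hU := isAffineOpen_top (Spec (CommRingCat.of K))
  have hfield : IsField Γ(Spec (CommRingCat.of K), ⊤) :=
    (Scheme.ΓSpecIso (CommRingCat.of K)).commRingCatIsoToRingEquiv.toMulEquiv.isField (Field.toIsField K)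
  letI := hfield.toField
  exact CycDeg.evaluation_surjective hU (y := t) trivial
    ((Ideal.eq_bot_of_prime (hU.primeIdealOf ⟨t, trivial⟩).asIdeal).symm ▸ Ideal.bot_isMaximal) v

/-- A subvariety of the projective line with given divisor. -/
theorem exists_subvariety (hX : Cyc.IsDimFun X δ)
    (hP : Cyc.DeltaCompat (CohB1.ProjSpaceOver.toBase 1 X) δP δ) (hD : Cyc.IsDimFun _ δP) (ξ : X)
    (f : X.residueField ξ) (hf : f ≠ 0) {k : ℤ} (hk : δ ξ = k + 1) :
    ∃ (W : Scheme.{u}) (ι : W ⟶ CohB1.ProjSpaceOver 1 X) (_ : IsIntegral W) (_ : IsClosedImmersion ι),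
      (δP (ι (genericPoint W)) = k + 1 ∧ ι (genericPoint W) ∉ Set.range ⇑(P1.sect X 0) ∧
        ι (genericPoint W) ∉ Set.range ⇑(P1.sect X 1)) ∧
      (∀ w, ξ ⤳ CohB1.ProjSpaceOver.toBase 1 X (ι w)) ∧
      ∀ x, Cyc.divFun δ ξ f x = Cyc.subschemeFun δ k (pullback.snd ι (P1.sect X 0)) x -
        Cyc.subschemeFun δ k (pullback.snd ι (P1.sect X 1)) x := by
  let T : Scheme.{u} := Spec (CommRingCat.of (X.residueField ξ))
  let j : T ⟶ X := X.fromSpecResidueField ξ
  let t : T := IsLocalRing.closedPoint (X.residueField ξ)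
  have hjt : j t = ξ := Scheme.fromSpecResidueField_apply _ _
  obtain ⟨r₀, hr₀, hdiv⟩ : ∃ r : X.residueField (j t), r ≠ 0 ∧ ∀ x, Cyc.divFun δ (j t) r x = Cyc.divFun δ ξ f x := by
    have H : ∀ y, y = ξ → ∃ r : X.residueField y, r ≠ 0 ∧ ∀ x, Cyc.divFun δ y r x = Cyc.divFun δ ξ f x := by
      rintro y rfl; exact ⟨f, hf, fun x => rfl⟩
    exact H _ hjt
  obtain ⟨b, hb⟩ := evaluation_spec_surjective (K := X.residueField ξ) t ((j.residueFieldMap t).hom r₀)
  have hbu : IsUnit (T.presheaf.germ ⊤ t trivial b) := by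
    refine (IsLocalRing.residue_ne_zero_iff_isUnit _).1 fun h => ?_
    have h0 : (T.evaluation ⊤ t trivial).hom b = 0 := h
    exact hr₀ ((map_eq_zero _).1 (hb.symm.trans h0))
  let g : T ⟶ CohB1.ProjSpaceOver 1 X :=
    pullback.lift (T.toSpecΓ ≫ Spec.map (CommRingCat.ofHom (P1.chartMap.{u} 0 Γ(T, ⊤) b)) ≫
      Proj.awayι P1.grading.{u} (P1.T 0) (P1.X_mem 0) one_pos) j (specULiftZIsTerminal.hom_ext _ _)
  have hcoord : HasCoord g b := pullback.lift_fst _ _ _
  have hgπ : g ≫ CohB1.ProjSpaceOver.toBase 1 X = j := pullback.lift_snd _ _ _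
  haveI : IsPreimmersion (g ≫ CohB1.ProjSpaceOver.toBase 1 X) := by rw [hgπ]; infer_instance
  have hπt : CohB1.ProjSpaceOver.toBase 1 X (g t) = ξ := by
    rw [← Scheme.Hom.comp_apply, hgπ]; exact hjt
  clear_value g
  have H : ∀ (j' : T ⟶ X) (_ : j' = j), ∃ r : X.residueField (j' t),
      (j'.residueFieldMap t).hom r = T.evaluation ⊤ t trivial b ∧
      ∀ x, Cyc.divFun δ (j' t) r x = Cyc.divFun δ ξ f x := by
    rintro j' rfl
    exact ⟨r₀, hb.symm, hdiv⟩
  obtain ⟨r, h1, h2⟩ := H _ hgπ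
  obtain ⟨hn0, hn1⟩ := hcoord.not_range t hbu
  obtain ⟨W, ι, _, _, hι, hrange⟩ := exists_closure (g t)
  refine ⟨W, ι, ‹_›, ‹_›, ⟨?_, by rw [hι]; exact hn0, by rw [hι]; exact hn1⟩, fun w => ?_, fun x => ?_⟩
  · rw [hι, delta_point (g := g) hP t, hπt, hk]
  · rw [← hπt, ← hι]
    exact ((genericPoint_specializes w).map ι.continuous).map (CohB1.ProjSpaceOver.toBase 1 X).continuous
  · have := hcoord.push hX hP hD t hbu ι hι r h1 (k := k) (by rw [hπt, hk]) x
    rw [← this, ← h2 x]
    rfl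

end Groth.Agent.P1Div
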