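import Groth.Agent.P1Div.Push
import Groth.Agent.DvrDom.ClosedProper
import Mathlib

/-!
Points of the projective line given by a value of the coordinate.
-/

set_option autoImplicit false
set_option linter.style.haveILetI false
set_option backward.isDefEq.respectTransparency false

universe u

open CategoryTheory CategoryTheory.Limits AlgebraicGeometry TopologicalSpace IsLocalRing
open Groth.Agent.C1Cap (rdu)
open ProjMor (chart ratio pz ev)

noncomputable section

namespace Groth.Agent.P1Div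

theorem exists_closure {P : Scheme.{u}} (ω : P) :
    ∃ (W : Scheme.{u}) (ι : W ⟶ P) (_ : IsIntegral W) (_ : IsClosedImmersion ι),
      ι (genericPoint W) = ω ∧ Set.range ι = closure ({ω} : Set P) := by
  let Z : Closeds P := ⟨closure {ω}, isClosed_closure⟩
  let j := (Scheme.IdealSheafData.vanishingIdeal Z).subschemeι
  haveI : IsReduced (Scheme.IdealSheafData.vanishingIdeal Z).subscheme := DvrDom.isReduced_vanishingIdeal_subscheme _
  have hr : Set.range j = closure {ω} := DvrDom.range_vanishingIdeal_subschemeι Z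
  obtain ⟨w₀, hw₀⟩ : ω ∈ Set.range j := hr ▸ subset_closure rfl
  have hgen : closure ({w₀} : Set (Scheme.IdealSheafData.vanishingIdeal Z).subscheme) = Set.univ := by
    refine Set.eq_univ_of_forall fun w => specializes_iff_mem_closure.1 ?_
    refine j.isClosedEmbedding.isInducing.specializes_iff.1 (specializes_iff_mem_closure.2 ?_)
    rw [hw₀, ← hr]; exact ⟨w, rfl⟩
  haveI : IrreducibleSpace ↥(Scheme.IdealSheafData.vanishingIdeal Z).subscheme :=
    (irreducibleSpace_def _).2 (by rw [Set.top_eq_univ, ← hgen]; exact isIrreducible_singleton.closure)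
  haveI : IsIntegral (Scheme.IdealSheafData.vanishingIdeal Z).subscheme := isIntegral_of_irreducibleSpace_of_isReduced _
  exact ⟨_, j, ‹_›, inferInstance, by rw [(genericPoint_spec _).eq (hgen : IsGenericPoint w₀ Set.univ), hw₀], hr⟩

variable {X T : Scheme.{u}} (g : T ⟶ CohB1.ProjSpaceOver 1 X) (b : Γ(T, ⊤))

/-- The coordinate pulls back to `b`. -/
def HasCoord : Prop :=
  g ≫ pz 1 X = T.toSpecΓ ≫ Spec.map (CommRingCat.ofHom (P1.chartMap.{u} 0 Γ(T, ⊤) b)) ≫
    Proj.awayι P1.grading.{u} (P1.T 0) (P1.X_mem 0) one_pos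

variable {g b}

theorem HasCoord.le_dom (h : HasCoord g b) : ⊤ ≤ g ⁻¹ᵁ dom X 0 := fun z _ => by
  show pz 1 X (g z) ∈ Proj.basicOpen P1.grading.{u} (P1.T 0)
  rw [← Scheme.Hom.comp_apply, h, ← Proj.opensRange_awayι P1.grading.{u} (P1.T 0) (P1.X_mem 0) one_pos]
  exact ⟨_, rfl⟩

theorem chartMap_u {B : Type u} [CommRing B] (c : B) :
    P1.chartMap.{u} 0 B c ((Proj.basicOpenIsoAway P1.grading.{u} (P1.T 0) (P1.X_mem 0) one_pos).inv.hom (u 0)) = c := by
  let φ : MvPolynomial (Fin (1 + 1)) P1.R0.{u} →+* B :=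
    MvPolynomial.eval₂Hom ((Int.castRingHom B).comp ULift.ringEquiv.toRingHom) (Function.update (fun _ => c) 0 1)
  have hφ : φ (P1.T 0) = 1 := by simp [φ]
  show ProjMor.chartHom (P1.X_mem 0) φ hφ (GrT.deh P1.grading.{u} (P1.X_mem 0) (MvPolynomial.X ((0 : Fin (1 + 1)) + 1))) = c
  rw [ProjMor.chartHom_deh]
  simp [φ, Function.update, ne_succ (0 : Fin (1 + 1))]

theorem HasCoord.app_u (h : HasCoord g b) :
    g.appLE (dom X 0) ⊤ h.le_dom ((pz 1 X).app (chart 1 0) (u 0)) = b := by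
  let ψ : Γ(CohB1.ProjSpace 1 (ULift.{u} ℤ), chart 1 0) →+* Γ(T, ⊤) :=
    (P1.chartMap.{u} 0 Γ(T, ⊤) b).comp (Proj.basicOpenIsoAway P1.grading.{u} (P1.T 0) (P1.X_mem 0) one_pos).inv.hom
  have hm : g ≫ pz 1 X = (T.toSpecΓ ≫ Spec.map (CommRingCat.ofHom ψ)) ≫ (ProjMor.isAffineOpen_chart.{u} 1 0).fromSpec := by
    rw [h, awayι_eq, Category.assoc, ← Spec.map_comp_assoc]
    rfl
  have H : ∀ (m : T ⟶ CohB1.ProjSpace 1 (ULift.{u} ℤ))
      (_ : m = (T.toSpecΓ ≫ Spec.map (CommRingCat.ofHom ψ)) ≫ (ProjMor.isAffineOpen_chart.{u} 1 0).fromSpec)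
      (h' : ⊤ ≤ m ⁻¹ᵁ chart 1 0), m.appLE (chart 1 0) ⊤ h' = CommRingCat.ofHom ψ := by
    rintro m rfl h'
    have hm' : (T.toSpecΓ ≫ Spec.map (CommRingCat.ofHom ψ)).appTop =
        (Scheme.ΓSpecIso Γ(CohB1.ProjSpace 1 (ULift.{u} ℤ), chart 1 0)).hom ≫ CommRingCat.ofHom ψ := by simp; rfl
    rw [Scheme.Hom.comp_appLE, IsAffineOpen.fromSpec_app_self, Category.assoc, Scheme.Hom.map_appLE,
      show (T.toSpecΓ ≫ Spec.map (CommRingCat.ofHom ψ)).appLE ⊤ ⊤ le_top =
        (T.toSpecΓ ≫ Spec.map (CommRingCat.ofHom ψ)).appTop by rw [Scheme.Hom.appTop, ← Scheme.Hom.appLE_eq_app]; rfl,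
      hm', Iso.inv_hom_id_assoc]
  have e : (g ≫ pz 1 X).appLE (chart 1 0) ⊤ h.le_dom = CommRingCat.ofHom ψ := H _ hm _
  have e2 := congrArg (fun q => q (u 0)) e
  rw [← Scheme.Hom.appLE_comp_appLE g (pz 1 X) (chart 1 0) (dom X 0) ⊤ le_rfl h.le_dom] at e2
  erw [← Scheme.Hom.app_eq_appLE] at e2
  exact e2.trans (chartMap_u b)

theorem HasCoord.stalkMap_tStk (h : HasCoord g b) (t : T) :
    (g.stalkMap t).hom (tStk 0 (g t) (h.le_dom (x := t) trivial)) = T.presheaf.germ ⊤ t trivial b := by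
  rw [tStk]
  refine (Scheme.Hom.germ_stalkMap_apply g (dom X 0) t _ _).trans ?_
  refine Eq.trans ?_ (congrArg (T.presheaf.germ ⊤ t trivial) h.app_u)
  exact (TopCat.Presheaf.germ_res_apply T.presheaf (homOfLE h.le_dom) t trivial _).symm

theorem HasCoord.not_range (h : HasCoord g b) (t : T) (hb : IsUnit (T.presheaf.germ ⊤ t trivial b)) :
    g t ∉ Set.range (P1.sect X 0) ∧ g t ∉ Set.range (P1.sect X 1) := by
  have hu : IsUnit (tStk 0 (g t) (h.le_dom (x := t) trivial)) := by
    rw [← h.stalkMap_tStk] at hb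
    exact isUnit_of_map_unit (g.stalkMap t).hom _ hb
  have key : ∀ i p (hp : p ∈ dom X i), IsUnit (tStk i p hp) → p ∉ Set.range (P1.sect X i) := by
    rintro i p hp hu ⟨y, rfl⟩
    exact not_isUnit_tStk_sect i y hu
  refine ⟨key 0 _ _ hu, fun hr => ?_⟩
  have h1 : g t ∈ dom X 1 := mem_dom_of_isUnit 0 _ _ hu
  exact key 1 _ h1 (IsUnit.of_mul_eq_one _ ((mul_comm _ _).trans (tStk_mul _ (h.le_dom (x := t) trivial) h1))) hr

variable {δ : X → ℤ} {δP : ↥(CohB1.ProjSpaceOver 1 X) → ℤ}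

theorem delta_point (hP : Cyc.DeltaCompat (CohB1.ProjSpaceOver.toBase 1 X) δP δ)
    [IsPreimmersion (g ≫ CohB1.ProjSpaceOver.toBase 1 X)] (t : T) :
    δP (g t) = δ (CohB1.ProjSpaceOver.toBase 1 X (g t)) := by
  haveI : IsPreimmersion g :=
    { isEmbedding := Topology.IsEmbedding.of_comp g.continuous (CohB1.ProjSpaceOver.toBase 1 X).continuous
        (g ≫ CohB1.ProjSpaceOver.toBase 1 X).isEmbedding
      stalkMap_surjective := fun x => by
        have h := (g ≫ CohB1.ProjSpaceOver.toBase 1 X).stalkMap_surjective x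
        rw [Scheme.Hom.stalkMap_comp] at h
        exact Function.Surjective.of_comp h }
  exact CycPush.deltaCompat_unique _
    (Bivar.deltaCompat_comp g (CohB1.ProjSpaceOver.toBase 1 X) _ δP δ (CycPush.deltaCompat_preimmersion g δP) hP)
    (CycPush.deltaCompat_preimmersion (g ≫ CohB1.ProjSpaceOver.toBase 1 X) δ) t

theorem HasCoord.normGen_tVal (h : HasCoord g b) [IsPreimmersion (g ≫ CohB1.ProjSpaceOver.toBase 1 X)] (t : T)
    (r : X.residueField (CohB1.ProjSpaceOver.toBase 1 X (g t)))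
    (hr : ((g ≫ CohB1.ProjSpaceOver.toBase 1 X).residueFieldMap t).hom r = T.evaluation ⊤ t trivial b) :
    Cyc.normGen (CohB1.ProjSpaceOver.toBase 1 X) (g t) (tVal (g t) (h.le_dom (x := t) trivial)) = r := by
  let π := CohB1.ProjSpaceOver.toBase 1 X
  rw [Scheme.residueFieldMap_comp g π t] at hr
  change (g.residueFieldMap t).hom ((π.residueFieldMap (g t)).hom r) = _ at hr
  have hv : (π.residueFieldMap (g t)).hom r = tVal (g t) (h.le_dom (x := t) trivial) := by
    refine (g.residueFieldMap t).hom.injective (hr.trans ?_)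
    refine Eq.symm ?_
    refine (DFunLike.congr_fun (CommRingCat.hom_ext_iff.mp (Scheme.residue_residueFieldMap g t)) _).trans ?_
    exact congrArg (T.residue t).hom (h.stalkMap_tStk t)
  have hs : Function.Surjective (π.residueFieldMap (g t)).hom := fun a => by
    obtain ⟨c, hc⟩ := CycPush.residueFieldMap_surjective_pre (g ≫ π) t ((g.residueFieldMap t).hom a)
    refine ⟨c, (g.residueFieldMap t).hom.injective ?_⟩
    rw [Scheme.residueFieldMap_comp g π t] at hc
    exact hc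
  letI := (π.residueFieldMap (g t)).hom.toAlgebra
  have hfin : Module.finrank (X.residueField (π (g t))) ((CohB1.ProjSpaceOver 1 X).residueField (g t)) = 1 := by
    have e := CycDeg.residueDegree_eq_one π hs
    exact e
  show Algebra.norm (X.residueField (π (g t))) (tVal (g t) _) = r
  rw [← hv]
  refine (Algebra.norm_algebraMap r).trans ?_
  rw [hfin, pow_one]

/-- The push forward of the divisor of the coordinate at a point with a given value. -/
theorem HasCoord.push [IsLocallyNoetherian X] (hX : Cyc.IsDimFun X δ)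
    (hP : Cyc.DeltaCompat (CohB1.ProjSpaceOver.toBase 1 X) δP δ) (hD : Cyc.IsDimFun _ δP) (h : HasCoord g b)
    [IsPreimmersion (g ≫ CohB1.ProjSpaceOver.toBase 1 X)] (t : T) (hb : IsUnit (T.presheaf.germ ⊤ t trivial b))
    {W : Scheme.{u}} [IsIntegral W] (ι : W ⟶ CohB1.ProjSpaceOver 1 X) [IsClosedImmersion ι]
    (hι : ι (genericPoint W) = g t) (r : X.residueField (CohB1.ProjSpaceOver.toBase 1 X (g t)))
    (hr : ((g ≫ CohB1.ProjSpaceOver.toBase 1 X).residueFieldMap t).hom r = T.evaluation ⊤ t trivial b)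
    {k : ℤ} (hk : δ (CohB1.ProjSpaceOver.toBase 1 X (g t)) = k + 1) (x : X) :
    Cyc.divFun δ (CohB1.ProjSpaceOver.toBase 1 X (g t)) r x =
      Cyc.subschemeFun δ k (pullback.snd ι (P1.sect X 0)) x -
        Cyc.subschemeFun δ k (pullback.snd ι (P1.sect X 1)) x := by
  haveI := isLocallyNoetherian_over (X := X)
  obtain ⟨hn0, hn1⟩ := h.not_range t hb
  have hd := delta_point (g := g) hP t
  rw [← h.normGen_tVal t r hr, ← CycPush.pushFun_divFun (CohB1.ProjSpaceOver.toBase 1 X) hD hX hP (g t) hd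
    (tVal (g t) (h.le_dom (x := t) trivial)) (tVal_ne_zero _ hn0) x]
  exact push_divFun_tVal hP hD ι hι (hd.trans hk) _ hn0 hn1 x

end Groth.Agent.P1Div
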