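import Groth.Agent.CycDim.Basic
import Groth.Agent.CycDim.OrdSum
import Groth.Agent.CycHex.Herbrand
import Groth.Agent.CycDim.Norm
import Mathlib

/-!
Lengths of quotients by an element of modules with one dimensional support as sums over the minimal primes.
-/

set_option autoImplicit false
set_option linter.style.haveILetI false

universe u

noncomputable section

namespace Groth.Agent.CycLen

open CycAlg Groth.Agent.CycHex Groth.Agent.CycDim IsLocalRing
open scoped Pointwise

variable {A : Type u} [CommRing A] [IsNoetherianRing A] [IsLocalRing A] {I : Ideal A} {a : A}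

/-- The primes containing `I` other than the maximal ideal are minimal over `I` and avoid `a`. -/
def DimOne (I : Ideal A) (a : A) : Prop :=
  ∀ q : Ideal A, q.IsPrime → I ≤ q → q ≠ maximalIdeal A → q ∈ I.minimalPrimes ∧ a ∉ q

theorem length_lt_top (h : DimOne I a) (M : Type u) [AddCommGroup M] [Module A M] [Module.Finite A M]
    (hI : ∀ b ∈ I, ∀ m : M, b • m = 0) (ha : ∀ m : M, a • m = 0) : Module.length A M < ⊤ := by
  refine isFiniteLength_of_annihilator fun q hq hle => ?_
  by_contra hmax
  have hne : q ≠ maximalIdeal A := fun e => hmax (e ▸ maximalIdeal.isMaximal A)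
  exact (h q hq (fun b hb => hle (Module.mem_annihilator.2 (hI b hb))) hne).2 (hle (Module.mem_annihilator.2 ha))

theorem fin_parts (h : DimOne I a) (M : Type u) [AddCommGroup M] [Module A M] [Module.Finite A M]
    (hI : ∀ b ∈ I, ∀ m : M, b • m = 0) :
    Module.length A (Coker a M) < ⊤ ∧ Module.length A (LinearMap.ker (LinearMap.lsmul A M a)) < ⊤ := by
  refine ⟨length_lt_top h _ (fun b hb m => ?_) fun m => ?_,
    length_lt_top h _ (fun b hb m => Subtype.ext (hI b hb m.1)) fun m => Subtype.ext m.2⟩
  · obtain ⟨m, rfl⟩ := Submodule.Quotient.mk_surjective _ m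
    rw [← Submodule.Quotient.mk_smul, hI b hb m, Submodule.Quotient.mk_zero]
  · obtain ⟨m, rfl⟩ := Submodule.Quotient.mk_surjective _ m
    rw [← Submodule.Quotient.mk_smul, Submodule.Quotient.mk_eq_zero]
    exact Submodule.smul_mem_pointwise_smul m a _ trivial

theorem fin_coh (h : DimOne I a) (M : Type u) [AddCommGroup M] [Module A M] [Module.Finite A M]
    (hI : ∀ b ∈ I, ∀ m : M, b • m = 0) : FinCoh A (LinearMap.lsmul A M a) 0 := by
  unfold FinCoh
  rw [(length_perH a M).1, (length_perH a M).2]
  exact ⟨(fin_parts h M hI).2, (fin_parts h M hI).1⟩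

theorem add_exact (h : DimOne I a)
    {M₁ M₂ M₃ : Type u} [AddCommGroup M₁] [Module A M₁] [Module.Finite A M₁] [AddCommGroup M₂] [Module A M₂]
    [Module.Finite A M₂] [AddCommGroup M₃] [Module A M₃] [Module.Finite A M₃] (h₁ : ∀ b ∈ I, ∀ m : M₁, b • m = 0)
    (h₂ : ∀ b ∈ I, ∀ m : M₂, b • m = 0) (h₃ : ∀ b ∈ I, ∀ m : M₃, b • m = 0)
    (f : M₁ →ₗ[A] M₂) (g : M₂ →ₗ[A] M₃) (hf : Function.Injective f) (hg : Function.Surjective g)
    (he : Function.Exact f g) :
    Module.length A (Coker a M₂) + Module.length A (LinearMap.ker (LinearMap.lsmul A M₁ a)) +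
        Module.length A (LinearMap.ker (LinearMap.lsmul A M₃ a)) =
      Module.length A (LinearMap.ker (LinearMap.lsmul A M₂ a)) + Module.length A (Coker a M₁) +
        Module.length A (Coker a M₃) := by
  have H := (additive (LinearMap.lsmul A M₁ a) 0 (LinearMap.lsmul A M₂ a) 0 (LinearMap.lsmul A M₃ a) 0
    ⟨LinearMap.comp_zero _, LinearMap.zero_comp _⟩ f f g g (LinearMap.ext fun x => (map_smul f a x).symm) (by simp)
    (LinearMap.ext fun x => (map_smul g a x).symm) (by simp) hf hf hg hg (LinearMap.exact_iff.1 he).symm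
    (LinearMap.exact_iff.1 he).symm (Or.inl ⟨fin_coh h M₁ h₁, fin_coh h M₂ h₂⟩)).2.2.2
  simp only [herbrand, (length_perH a M₁).1, (length_perH a M₁).2, (length_perH a M₂).1, (length_perH a M₂).2,
    (length_perH a M₃).1, (length_perH a M₃).2] at H
  obtain ⟨c1, k1⟩ := fin_parts h M₁ h₁
  obtain ⟨c2, k2⟩ := fin_parts h M₂ h₂
  obtain ⟨c3, k3⟩ := fin_parts h M₃ h₃
  lift Module.length A (Coker a M₁) to ℕ using c1.ne with x1
  lift Module.length A (Coker a M₂) to ℕ using c2.ne with x2
  lift Module.length A (Coker a M₃) to ℕ using c3.ne with x3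
  lift Module.length A (LinearMap.ker (LinearMap.lsmul A M₁ a)) to ℕ using k1.ne with y1
  lift Module.length A (LinearMap.ker (LinearMap.lsmul A M₂ a)) to ℕ using k2.ne with y2
  lift Module.length A (LinearMap.ker (LinearMap.lsmul A M₃ a)) to ℕ using k3.ne with y3
  simp only [ENat.toNat_coe] at H
  norm_cast
  omega

/-- The length formula with given support. -/
theorem length_quot_eq (h : DimOne I a) (M : Type u) [AddCommGroup M] [Module A M] [Module.Finite A M]
    (hI : ∀ b ∈ I, ∀ m : M, b • m = 0) (S : Finset (PrimeSpectrum A))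
    (hS : ∀ p : PrimeSpectrum A, p ∈ S ↔ I ≤ p.asIdeal ∧ p.asIdeal ≠ maximalIdeal A) :
    Module.length A (Coker a M) = Module.length A (LinearMap.ker (LinearMap.lsmul A M a)) +
      ∑ p ∈ S, lenAt p M * coef a p := by
  classical
  revert hI
  refine IsNoetherianRing.induction_on_isQuotientEquivQuotientPrime (A := A)
    (motive := fun N _ _ _ => (∀ b ∈ I, ∀ m : N, b • m = 0) →
      Module.length A (Coker a N) = Module.length A (LinearMap.ker (LinearMap.lsmul A N a)) +
        ∑ p ∈ S, lenAt p N * coef a p) inferInstance ?_ ?_ ?_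
  · intro N _ _ _ _ _
    have h1 : Subsingleton (Coker a N) := (Submodule.Quotient.mk_surjective _).subsingleton
    rw [Module.length_eq_zero, Module.length_eq_zero]
    refine (Finset.sum_eq_zero fun p _ => ?_).symm.trans (zero_add _).symm
    rw [lenAt, Module.length_eq_zero_iff.2 (LocalizedModule.subsingleton_iff.2 fun m =>
      ⟨1, p.asIdeal.primeCompl.one_mem, Subsingleton.elim _ _⟩), zero_mul]
  · intro N _ _ _ q e hI
    have hIq : I ≤ q.asIdeal := fun b hb => by
      have h1 : b • (Ideal.Quotient.mk q.asIdeal 1) = 0 := by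
        obtain ⟨n, hn⟩ := e.surjective (Ideal.Quotient.mk q.asIdeal 1)
        rw [← hn, ← map_smul, hI b hb n, map_zero]
      refine Ideal.Quotient.eq_zero_iff_mem.1 ?_
      rw [← h1, Algebra.smul_def, Ideal.Quotient.algebraMap_eq, map_one, mul_one]
    rw [Finset.sum_congr rfl (fun p _ => by rw [lenAt_congr p e])]
    by_cases hq : q.asIdeal ≠ maximalIdeal A
    · obtain ⟨hqmin, haq⟩ := h q.asIdeal q.2 hIq hq
      have hker : Subsingleton (LinearMap.ker (LinearMap.lsmul A N a)) := by
        refine subsingleton_of_forall_eq 0 fun m => Subtype.ext (e.injective ?_)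
        rw [Submodule.coe_zero, map_zero]
        have h1 : a • e m.1 = 0 := by rw [← map_smul, show a • m.1 = 0 from m.2, map_zero]
        obtain ⟨b, hb⟩ := Ideal.Quotient.mk_surjective (e m.1)
        rw [← hb] at h1 ⊢
        exact Ideal.Quotient.eq_zero_iff_mem.2
          ((q.2.mem_or_mem (Ideal.Quotient.eq_zero_iff_mem.1 h1)).resolve_left haq)
      rw [Module.length_eq_zero (M := LinearMap.ker (LinearMap.lsmul A N a)), zero_add, Finset.sum_eq_single q]
      · rw [CycNorm.lenAt_self q, one_mul, coef]
        refine LinearEquiv.length_eq ?_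
        let φ : N →ₗ[A] A ⧸ (q.asIdeal ⊔ Ideal.span {a}) := (Submodule.factor le_sup_left).comp e.toLinearMap
        have hφ : Function.Surjective φ := (Submodule.factor_surjective le_sup_left).comp e.surjective
        refine (Submodule.quotEquivOfEq _ _ ?_).trans (φ.quotKerEquivOfSurjective hφ)
        ext n
        obtain ⟨b, hb⟩ := Ideal.Quotient.mk_surjective (e n)
        have hφn : φ n = Ideal.Quotient.mk _ b := by
          show Submodule.factor le_sup_left (e n) = _
          rw [← hb]; rfl
        rw [LinearMap.mem_ker, hφn, Ideal.Quotient.eq_zero_iff_mem]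
        constructor
        · rintro ⟨m, -, rfl⟩
          obtain ⟨c, hc⟩ := Ideal.Quotient.mk_surjective (e m)
          have h2 : Ideal.Quotient.mk q.asIdeal b = Ideal.Quotient.mk q.asIdeal (a * c) := by
            rw [hb]
            exact (map_smul e a m).trans (congrArg (a • ·) hc.symm)
          rw [Ideal.Quotient.eq] at h2
          have := Ideal.add_mem _ (Ideal.mem_sup_left h2 : b - a * c ∈ q.asIdeal ⊔ Ideal.span {a})
            (Ideal.mem_sup_right (Ideal.mul_mem_right c _ (Ideal.mem_span_singleton_self a)))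
          simpa using this
        · intro hb'
          obtain ⟨x, hx, y, hy, rfl⟩ := Submodule.mem_sup.1 hb'
          obtain ⟨c, rfl⟩ := Ideal.mem_span_singleton'.1 hy
          refine ⟨e.symm (Ideal.Quotient.mk _ c), trivial, e.injective ?_⟩
          show e (a • e.symm (Ideal.Quotient.mk _ c)) = e n
          rw [map_smul, LinearEquiv.apply_symm_apply, ← hb, map_add, Ideal.Quotient.eq_zero_iff_mem.2 hx, zero_add,
            mul_comm]
          rfl
      · intro p hp hpq
        rw [lenAt_quot_of_not_le (fun hle => hpq ?_), zero_mul]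
        obtain ⟨hIp, hpm⟩ := (hS p).1 hp
        obtain ⟨hpmin, -⟩ := h p.asIdeal p.2 hIp hpm
        exact PrimeSpectrum.ext (le_antisymm (hpmin.2 ⟨q.2, hIq⟩ hle) hle)
      · intro h'; exact absurd ((hS q).2 ⟨hIq, hq⟩) h'
    · rw [not_not] at hq
      rw [Finset.sum_eq_zero fun p hp => by
        rw [lenAt_quot_of_not_le (fun hle => ?_), zero_mul]
        rw [hq] at hle
        exact ((hS p).1 hp).2 (IsLocalRing.eq_maximalIdeal ((maximalIdeal.isMaximal A).eq_of_le p.2.ne_top hle ▸
          maximalIdeal.isMaximal A))]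
      rw [add_zero]
      haveI : IsSimpleModule A N := by
        haveI hm : q.asIdeal.IsMaximal := by rw [hq]; infer_instance
        haveI : IsSimpleModule A (A ⧸ q.asIdeal) := isSimpleModule_iff_isCoatom.2 hm.out
        exact IsSimpleModule.congr e
      have hN : Module.length A N < ⊤ := by rw [Module.length_eq_one]; exact ENat.one_lt_top
      have H := (finite_length (LinearMap.lsmul A N a) 0 ⟨LinearMap.comp_zero _, LinearMap.zero_comp _⟩ hN hN).2
      simp only [herbrand, (length_perH a N).1, (length_perH a N).2, sub_self] at H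
      obtain ⟨c1, k1⟩ := fin_parts h N hI
      lift Module.length A (Coker a N) to ℕ using c1.ne with x1
      lift Module.length A (LinearMap.ker (LinearMap.lsmul A N a)) to ℕ using k1.ne with y1
      simp only [ENat.toNat_coe] at H
      norm_cast
      omega
  · intro N₁ _ _ _ N₂ _ _ _ N₃ _ _ _ f g hf hg hfg ih₁ ih₃ hI₂
    have hI₁ : ∀ b ∈ I, ∀ m : N₁, b • m = 0 := fun b hb m => hf (by rw [map_smul, hI₂ b hb, map_zero])
    have hI₃ : ∀ b ∈ I, ∀ m : N₃, b • m = 0 := fun b hb m => by
      obtain ⟨m, rfl⟩ := hg m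
      rw [← map_smul, hI₂ b hb, map_zero]
    have H := add_exact h hI₁ hI₂ hI₃ f g hf hg hfg
    rw [Finset.sum_congr rfl (fun p _ => by rw [lenAt_add p f g hf hg hfg, add_mul]), Finset.sum_add_distrib]
    rw [ih₁ hI₁, ih₃ hI₃] at H
    obtain ⟨-, k1⟩ := fin_parts h N₁ hI₁
    obtain ⟨-, k3⟩ := fin_parts h N₃ hI₃
    refine (WithTop.add_right_inj (WithTop.add_ne_top.2 ⟨k1.ne, k3.ne⟩)).1 ?_
    have key : ∀ u v w s t : ℕ∞, u + (v + s) + (w + t) = u + (s + t) + (v + w) := by
      intros; ac_rfl
    exact ((add_assoc _ _ _).symm.trans H).trans (key _ _ _ _ _)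

end Groth.Agent.CycLen
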